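import Cfsg.Agent.Lib.Fischer.Unit.FiveData

/-!
In dimension five a closed set of points meeting each line through one of its points once is the set of the
points of weight two of an orthonormal frame.
-/

set_option autoImplicit false
set_option linter.unusedSectionVars false

namespace Cfsg.Agent.Fischer.Unit.Five

open Matrix
open Cfsg.Agent.InvChar.Coset (FF)
open Cfsg.Agent.Classical.Unitary
open Cfsg.Agent.ThreeTransp

local notation "V5" => (Fin 5 → FF)
local notation "H" => Cfsg.hermForm 5 FF 2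

/-- The properties of the set of common neighbours. -/
structure PSet (S : (Fin 5 → FF) → Prop) : Prop where
  ne : ∀ {w}, S w → w ≠ 0
  iso : ∀ {w}, S w → Cfsg.hermForm 5 FF 2 w w = 0
  smul : ∀ {w} {k : FF}, k ≠ 0 → (S (k • w) ↔ S w)
  third : ∀ {w w'}, S w → S w' → S (w' + Cfsg.hermForm 5 FF 2 w' w • w)
  line : ∀ {w p}, S w → Cfsg.hermForm 5 FF 2 p p = 0 → Cfsg.hermForm 5 FF 2 p w = 0 → (∀ t : FF, p ≠ t • w) →
    (∃ σ : FF, S (p + σ • w)) ∧ ∀ σ σ' : FF, S (p + σ • w) → S (p + σ' • w) → σ = σ'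

/-- An isometry. -/
abbrev IsIsometry (f : (Fin 5 → FF) ≃ₗ[FF] (Fin 5 → FF)) : Prop :=
  ∀ x y, Cfsg.hermForm 5 FF 2 (f x) (f y) = Cfsg.hermForm 5 FF 2 x y

theorem exists_equiv (L : V5 →ₗ[FF] V5) (h : ∀ x y, H (L x) (L y) = H x y) :
    ∃ f : V5 ≃ₗ[FF] V5, IsIsometry f ∧ ∀ x, f x = L x := by
  have hinj : Function.Injective L := fun x y e => sub_eq_zero.1 (eq_zero_of_H hF fun z => by
    rw [← h (x - y) z, map_sub, e, sub_self, H_zero_left])
  exact ⟨LinearEquiv.ofInjectiveEndo L hinj, fun x y => h x y, fun x => rfl⟩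

theorem PSet.comp {S : V5 → Prop} (P : PSet S) {f : V5 ≃ₗ[FF] V5} (hf : IsIsometry f) : PSet fun w => S (f w) where
  ne h e := P.ne h (by rw [e, map_zero])
  iso h := by rw [← hf]; exact P.iso h
  smul hk := by rw [map_smul]; exact P.smul hk
  third h h' := by rw [map_add, map_smul, ← hf]; exact P.third h h'
  line {w p} hw hp hpw hli := by
    obtain ⟨⟨σ, h1⟩, h2⟩ := P.line hw (p := f p) (by rw [hf]; exact hp) (by rw [hf]; exact hpw)
      (fun t e => hli t (f.injective (by rw [e, map_smul])))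
    exact ⟨⟨σ, by rw [map_add, map_smul]; exact h1⟩,
      fun s s' a b => h2 s s' (by rw [← map_smul, ← map_add]; exact a) (by rw [← map_smul, ← map_add]; exact b)⟩

theorem PSet.step {S : V5 → Prop} (P : PSet S) {p q : V5} (hp : S p) (hq : S q) (r : V5) (k : FF) (hk : k ≠ 0)
    (e : q + H q p • p = k • r) : S r := by
  rw [← P.smul hk, ← e]; exact P.third hp hq

theorem PSet.of_split {S : V5 → Prop} (P : PSet S) {a b c d e : FF} (h : S ((Five.mk a b c d e))) (hn : ¬ Wt ((Five.mk a b c d e)))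
    (hall : ∀ w, Wt w → S w) : False := by
  rcases split_four a b c d e (P.ne h) (P.iso h) with hw | ⟨i, j, h1, h2, h3⟩
  · exact hn hw
  set x := (Five.mk a b c d e) with hx
  set p : V5 := fun l => if l = i ∨ l = j then x l else 0 with hp
  have hq : x + (1 : FF) • p = fun l => if l = i ∨ l = j then 0 else x l := by
    funext l
    simp only [hp, Pi.add_apply, Pi.smul_apply, one_smul]
    split
    · rw [← two_mul, ff_two, zero_mul]
    · rw [add_zero]
  obtain ⟨-, huniq⟩ := P.line (hall p h1) (P.iso h) h2 fun t e => hn (by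
    rcases eq_or_ne t 0 with rfl | ht
    · exact absurd (by rw [e, zero_smul]) (P.ne h)
    · rw [e, Wt]
      simpa [Wt, ht, Pi.smul_apply] using h1)
  exact one_ne_zero (huniq 1 0 (by rw [hq]; exact hall _ h3) (by rw [zero_smul, add_zero]; exact h))

/-- The basis point `e₃ + e₄`. -/
def top : Fin 5 → FF := mk 0 0 0 1 1

theorem H_top (x : V5) : H x top = x 3 + x 4 := by
  simp [Cfsg.hermForm, top, mk, Fin.sum_univ_five]

theorem shear {S : V5 → Prop} (P : PSet S) (ht : S top) :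
    ∃ f : V5 ≃ₗ[FF] V5, IsIsometry f ∧ f top = top ∧ ∀ i, S (f (nine i)) := by
  have htt : H top top = 0 := by decide +kernel
  have lift : ∀ p : V5, H p p = 0 → H p top = 0 → p 3 = 0 → p ≠ 0 → ∃ σ : FF, S (p + σ • top) := by
    intro p h1 h2 h3 h4
    refine (P.line ht h1 h2 fun t e => h4 ?_).1
    have := congrFun e 3
    rw [h3] at this
    have ht0 : t = 0 := by simpa [top, mk] using this.symm
    rw [e, ht0, zero_smul]
  obtain ⟨s0, h0⟩ := lift (nine 0) (by decide +kernel) (by decide +kernel) rfl (by decide +kernel)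
  obtain ⟨s1, h1⟩ := lift (nine 1) (by decide +kernel) (by decide +kernel) rfl (by decide +kernel)
  obtain ⟨s6, h6⟩ := lift (nine 6) (by decide +kernel) (by decide +kernel) rfl (by decide +kernel)
  set f1 : FF := (s0 + s1) * FF.w with hf1
  set f0 : FF := s0 + f1 with hf0
  set f2 : FF := s6 + f1 with hf2
  have hnorm : ∀ a b d : FF, a ^ 3 + b ^ 3 + d ^ 3 = 0 ∨ a ^ 3 + b ^ 3 + d ^ 3 = 1 := by decide +kernel
  obtain ⟨τ, hτ⟩ := exists_trace (hnorm f0 f1 f2)
  set c : V5 := mk (f0 ^ 2) (f1 ^ 2) (f2 ^ 2) 0 0 with hc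
  have q4 : ∀ u : FF, (u ^ 2) ^ 2 = u := by decide +kernel
  have hpc : ∀ p : V5, H p c = p 0 * f0 + p 1 * f1 + p 2 * f2 := fun p => by
    simp [Cfsg.hermForm, hc, mk, Fin.sum_univ_five, q4]
  have hcc : H c c = f0 ^ 3 + f1 ^ 3 + f2 ^ 3 := by
    rw [hpc]; simp [hc, mk]; ring
  have hct : H c top = 0 := by rw [H_top]; simp [hc, mk]
  let L : V5 →ₗ[FF] V5 :=
    LinearMap.id + (hlin 2 top).smulRight c + (hlin 2 c + τ • hlin 2 top).smulRight top
  have hLx : ∀ x : V5, L x = x + H x top • c + (H x c + τ * H x top) • top := fun x => rfl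
  have hL : ∀ x y, H (L x) (L y) = H x y := by
    intro x y
    simp only [hLx, H_add_left, H_add_right hF, H_smul_left, H_smul_right, htt, hcc, hct, zero_comm.1 hct,
      ← conjH y c, ← conjH y top]
    have sq : ∀ a b : FF, (a + b) ^ 2 = a ^ 2 + b ^ 2 := by decide +kernel
    simp only [sq, mul_pow]
    linear_combination (H x top * H y top ^ 2) * hτ + (H y top ^ 2 * H x c + H x top * H y c ^ 2
      + H x top * H y top ^ 2 * (f0 ^ 3 + f1 ^ 3 + f2 ^ 3)) * ff_two
  obtain ⟨f, hf, hfL⟩ := exists_equiv L hL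
  refine ⟨f, hf, ?_, ?_⟩
  · rw [hfL, hLx, htt, zero_comm.1 hct]; simp
  have P' := P.comp hf
  have key : ∀ (p : V5) (s : FF), p 3 = 0 → p 4 = 0 → f0 * p 0 + f1 * p 1 + f2 * p 2 = s → f p = p + s • top := by
    intro p s h3 h4 he
    rw [hfL, hLx, H_top, h3, h4, add_zero, zero_smul, add_zero, mul_zero, add_zero, hpc, ← he,
      mul_comm f0, mul_comm f1, mul_comm f2]
  have g0 : S (f (nine 0)) := by
    rw [key _ s0 rfl rfl ?_]; exact h0
    simp [nine, mk, hf0]
    linear_combination f1 * ff_two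
  have g1 : S (f (nine 1)) := by
    rw [key _ s1 rfl rfl ?_]; exact h1
    simp [nine, mk, hf0, hf1]
    have : ∀ s0 s1 : FF, s0 + (s0 + s1) * FF.w + (s0 + s1) * FF.w * FF.w = s1 := by decide +kernel
    exact this s0 s1
  have g6 : S (f (nine 6)) := by
    rw [key _ s6 rfl rfl ?_]; exact h6
    simp [nine, mk, hf2]
    linear_combination f1 * ff_two
  have g2 : S (f (nine 2)) := P'.step g0 g1 (nine 2) .w (by decide) (by decide +kernel)
  have g3 : S (f (nine 3)) := P'.step g0 g6 (nine 3) 1 (by decide) (by decide +kernel)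
  have g4 : S (f (nine 4)) := P'.step g1 g6 (nine 4) .w2 (by decide) (by decide +kernel)
  have g5 : S (f (nine 5)) := P'.step g2 g6 (nine 5) .w (by decide) (by decide +kernel)
  have g8 : S (f (nine 8)) := P'.step g3 g1 (nine 8) .w (by decide) (by decide +kernel)
  have g7 : S (f (nine 7)) := P'.step g3 g2 (nine 7) .w2 (by decide) (by decide +kernel)
  intro i
  fin_cases i
  exacts [g0, g1, g2, g3, g4, g5, g6, g7, g8]

/-- The low points are in the set. -/
theorem low_mem {S : V5 → Prop} (P : PSet S) (h9 : ∀ i, S (nine i)) {x : V5} (hl : Low x) (hx0 : x ≠ 0)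
    (hx : H x x = 0) : Wt x ∧ S x := by
  rw [eq_mk x, hl.1, hl.2] at hx0 hx ⊢
  obtain ⟨hw, i, k, hk, e⟩ := nine_spec _ _ _ hx0 hx
  exact ⟨hw, by rw [e, P.smul hk]; exact h9 i⟩

/-- Points of the set orthogonal to the top point are low. -/
theorem low_of_perp {S : V5 → Prop} (P : PSet S) (ht : S top) (h9 : ∀ i, S (nine i)) {x : V5} (hx : S x)
    (hxt : H x top = 0) (hne : ∀ t : FF, x ≠ t • top) : Low x := by
  have hxt' : H x top = 0 := hxt
  have h34 : ∀ a b : FF, a + b = 0 → a = b := by decide +kernel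
  rw [H_top] at hxt
  replace hxt := h34 _ _ hxt
  have h2 : ∀ a : FF, a + a * 1 = 0 := by decide +kernel
  set y := x + x 3 • top with hy
  have hyl : Low y := ⟨h2 (x 3), by show x 4 + x 3 * 1 = 0; rw [← hxt]; exact h2 (x 3)⟩
  have hy0 : y ≠ 0 := fun e => hne (x 3) (sub_eq_zero.1 (by
    rw [sub_eq_add_neg, ← neg_smul, neg_eq_self]; exact e))
  have hyy : H y y = 0 := by
    rw [hy]
    simp [H_add_left, H_add_right hF, H_smul_left, H_smul_right, P.iso hx, P.iso ht, hxt', zero_comm.1 hxt']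
  obtain ⟨-, huniq⟩ := P.line ht (P.iso hx) hxt' hne
  have h3 := huniq (x 3) 0 (low_mem P h9 hyl hy0 hyy).2 (by rw [zero_smul, add_zero]; exact hx)
  exact ⟨h3, hxt ▸ h3⟩

theorem twin {S : V5 → Prop} (P : PSet S) (ht : S top) (h9 : ∀ i, S (nine i)) :
    S (mk 0 0 0 .w .w2) ∧ S (mk 0 0 0 .w2 .w) := by
  set a' : V5 := mk 0 0 0 .w .w2 with ha'
  have hex : ∀ i, ∃ σ : FF, S (a' + σ • nine i) ∧ ∀ σ', S (a' + σ' • nine i) → σ = σ' := fun i => by
    obtain ⟨⟨σ, hσ⟩, hu⟩ := P.line (h9 i) (p := a') (by decide +kernel) (by revert i; decide +kernel)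
      (by revert i; decide +kernel)
    exact ⟨σ, hσ, fun σ' h' => hu σ σ' hσ h'⟩
  choose σ hσ hu using hex
  have hp : ∀ i, H a' (nine i) = 0 ∧ H (nine i) a' = 0 ∧ H (nine i) (nine i) = 0 := by decide +kernel
  -- how one shift determines another
  have key : ∀ i j, σ i ≠ 0 → H (nine j) (nine i) ≠ 0 → σ j * σ i ^ 2 * H (nine j) (nine i) = 1 := by
    intro i j hi hij
    set g := H (nine j) (nine i) with hg
    set h := σ i ^ 2 * g with hh
    have h0 : h ≠ 0 := mul_ne_zero (pow_ne_zero _ hi) hij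
    have s1 := P.third (hσ i) (h9 j)
    have e1 : H (nine j) (a' + σ i • nine i) = h := by
      rw [H_add_right hF, H_smul_right, (hp j).2.1, zero_add]
    rw [e1] at s1
    have s2 := P.third (h9 i) s1
    have e2 : H (nine j + h • (a' + σ i • nine i)) (nine i) = g := by
      simp only [H_add_left, H_smul_left, (hp i).1, (hp i).2.2, mul_zero, add_zero, ← hg]
    rw [e2] at s2
    have e3 : nine j + h • (a' + σ i • nine i) + g • nine i = h • (a' + h⁻¹ • nine j) := by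
      have hs3 : h * σ i = g := by
        rw [hh, mul_right_comm, ← pow_succ, GroupStructure3.ThreeTransUnitary.cube hF hi, one_mul]
      rw [smul_add, smul_add, smul_smul, smul_smul, hs3, mul_inv_cancel₀ h0, one_smul,
        show nine j + (h • a' + g • nine i) + g • nine i = (h • a' + nine j) + (g • nine i + g • nine i) by abel,
        ← add_smul g g, ← two_mul, ff_two, zero_mul, zero_smul, add_zero]
    rw [e3, P.smul h0] at s2
    rw [hu j _ s2, mul_assoc, ← hh, inv_mul_cancel₀ h0]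
  have h00 : σ 0 = 0 := by
    by_contra hne
    have k1 := key 0 1 hne (by decide +kernel)
    have k6 := key 0 6 hne (by decide +kernel)
    have hne1 : σ 1 ≠ 0 := fun e => by simp [e] at k1
    have k16 := key 1 6 hne1 (by decide +kernel)
    rw [show H (nine 1) (nine 0) = FF.w2 by decide +kernel] at k1
    rw [show H (nine 6) (nine 0) = 1 by decide +kernel, mul_one] at k6
    rw [show H (nine 6) (nine 1) = FF.w2 by decide +kernel] at k16
    exact sigma_false _ _ _ hne k1 k6 k16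
  have hA := hσ 0
  rw [h00, zero_smul, add_zero] at hA
  exact ⟨hA, P.step ht hA _ 1 one_ne_zero (by decide +kernel)⟩

theorem top_frame {S : V5 → Prop} (P : PSet S) {w : V5} (hw : S w) :
    ∃ f : V5 ≃ₗ[FF] V5, IsIsometry f ∧ f top = w ∧ (∀ i, S (f (nine i))) ∧
      S (f (mk 0 0 0 .w .w2)) ∧ S (f (mk 0 0 0 .w2 .w)) := by
  obtain ⟨g, hg⟩ := exists_gu_map hF (u := top) (u' := w) (by decide +kernel) (P.ne hw)
    (by rw [P.iso hw]; decide +kernel)
  obtain ⟨f, hf, hfg⟩ := exists_equiv (Matrix.mulVecLin (gmat g)) fun x y => GU_H g x y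
  have hft : f top = w := by rw [hfg, Matrix.mulVecLin_apply, hg]
  have P1 := P.comp hf
  obtain ⟨t, ht, htt, h9⟩ := shear P1 (show S (f top) by rw [hft]; exact hw)
  have P2 := P1.comp ht
  have h2 := twin P2 (show S (f (t top)) by rw [htt, hft]; exact hw) h9
  exact ⟨t.trans f, fun x y => by rw [LinearEquiv.trans_apply, LinearEquiv.trans_apply, hf, ht],
    by rw [LinearEquiv.trans_apply, htt, hft], h9, h2⟩

/-- The set is that of the points of weight two of a frame. -/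
theorem shape {S : V5 → Prop} (P : PSet S) (hne : ∃ w, S w) :
    ∃ f : V5 ≃ₗ[FF] V5, IsIsometry f ∧ ∀ w, S (f w) ↔ Wt w := by
  obtain ⟨w₀, hw₀⟩ := hne
  obtain ⟨f₁, hf₁, htop, h9, ha1, ha2⟩ := top_frame P hw₀
  have P1 := P.comp hf₁
  have ht : S (f₁ top) := htop ▸ hw₀
  obtain ⟨g, hg, gtop, g9, gb1, gb2⟩ := top_frame P1 (h9 0)
  have P2 := P1.comp hg
  have e3 : ∀ x : V5, g x 3 + g x 4 = H (g x) top := fun x => (H_top _).symm
  -- the top point is low for the second frame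
  obtain ⟨z, hz⟩ := g.surjective top
  have hzlow : Low z := by
    refine low_of_perp P2 (show S (f₁ (g top)) by rw [gtop]; exact h9 0) g9 (show S (f₁ (g z)) by rw [hz]; exact ht) ?_ fun t e => ?_
    · rw [← hg, hz, gtop]; decide +kernel
    · have h := congrArg g e
      rw [hz, map_smul, gtop] at h
      have := congrFun h 3
      simp [top, nine, mk] at this
  have hglow : ∀ y : V5, y 0 = 0 → y 1 = 0 → y 2 = 0 → H (g y) top = 0 := fun y h0 h1 h2 => by
    rw [← hz, hg]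
    simp [Cfsg.hermForm, Fin.sum_univ_five, h0, h1, h2, hzlow.1, hzlow.2]
  have hb : Low (g top) := by rw [gtop]; decide +kernel
  have hb' : Low (g (mk 0 0 0 .w .w2)) := by
    refine low_of_perp P1 ht h9 gb1 (hglow _ rfl rfl rfl) fun t e => ?_
    rw [← hz, ← map_smul] at e
    have := congrFun (g.injective e) 3
    simp [mk, hzlow.1] at this
  have hlow : ∀ y : V5, y 0 = 0 → y 1 = 0 → y 2 = 0 → Low (g y) := by
    intro y h0 h1 h2
    have : ∀ d e : FF, ∃ α β : FF, mk 0 0 0 d e = α • top + β • mk 0 0 0 .w .w2 := by decide +kernel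
    obtain ⟨α, β, e⟩ := this (y 3) (y 4)
    rw [eq_mk y, h0, h1, h2, e, map_add, map_smul, map_smul]
    exact ⟨by simp [hb.1, hb'.1], by simp [hb.2, hb'.2]⟩
  -- the adapted frame
  set u := g (mk 0 0 0 1 0) with hu
  set v := g (mk 0 0 0 0 1) with hv
  obtain ⟨hu3, hu4⟩ := hlow (mk 0 0 0 1 0) rfl rfl rfl
  obtain ⟨hv3, hv4⟩ := hlow (mk 0 0 0 0 1) rfl rfl rfl
  rw [← hu] at hu3 hu4
  rw [← hv] at hv3 hv4
  have huu : H u u = 1 := by rw [hu, hg]; decide +kernel
  have hvv : H v v = 1 := by rw [hv, hg]; decide +kernel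
  have huv : H u v = 0 := by rw [hu, hv, hg]; decide +kernel
  have q4 : ∀ a : FF, (a ^ 2) ^ 2 = a := by decide +kernel
  set r : V5 := mk ((u 1 * v 2 + u 2 * v 1) ^ 2) ((u 0 * v 2 + u 2 * v 0) ^ 2) ((u 0 * v 1 + u 1 * v 0) ^ 2) 0 0 with hr
  have hvu : H v u = 0 := zero_comm.1 huv
  simp only [Cfsg.hermForm, Fin.sum_univ_five, hu3, hu4, hv3, hv4, zero_pow two_ne_zero, mul_zero, add_zero]
    at huu hvv huv hvu
  have hur : H u r = 0 := by
    simp only [Cfsg.hermForm, Fin.sum_univ_five, hr, mk, Matrix.cons_val, q4, hu3, hu4, zero_mul, add_zero]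
    linear_combination (u 0 * u 1 * v 2 + u 0 * u 2 * v 1 + u 1 * u 2 * v 0) * ff_two
  have hvr : H v r = 0 := by
    simp only [Cfsg.hermForm, Fin.sum_univ_five, hr, mk, Matrix.cons_val, q4, hv3, hv4, zero_mul, add_zero]
    linear_combination (v 0 * u 1 * v 2 + v 0 * u 2 * v 1 + v 1 * v 2 * u 0) * ff_two
  have hrr : H r r = 1 := by
    simp only [Cfsg.hermForm, Fin.sum_univ_five, hr, mk, Matrix.cons_val, q4]
    have sq : ∀ a b : FF, (a + b) ^ 2 = a ^ 2 + b ^ 2 := by decide +kernel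
    simp only [sq, mul_pow, zero_pow two_ne_zero, zero_mul, add_zero]
    linear_combination (v 0 * v 0 ^ 2 + v 1 * v 1 ^ 2 + v 2 * v 2 ^ 2) * huu + hvv
      - (v 0 * u 0 ^ 2 + v 1 * u 1 ^ 2 + v 2 * u 2 ^ 2) * huv
      + (u 0 ^ 2 * v 1 ^ 2 * u 1 * v 0 + u 1 ^ 2 * v 0 ^ 2 * u 0 * v 1 + u 0 ^ 2 * v 2 ^ 2 * u 2 * v 0
        + u 2 ^ 2 * v 0 ^ 2 * u 0 * v 2 + u 1 ^ 2 * v 2 ^ 2 * u 2 * v 1 + u 2 ^ 2 * v 1 ^ 2 * u 1 * v 2) * ff_two
  set e₃ : V5 := mk 0 0 0 1 0 with he₃
  set e₄ : V5 := mk 0 0 0 0 1 with he₄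
  let pr : Fin 5 → (V5 →ₗ[FF] FF) := fun i => LinearMap.proj i
  let N : V5 →ₗ[FF] V5 :=
    (pr 0).smulRight u + (pr 1).smulRight v + (pr 2).smulRight r + (pr 3).smulRight e₃ + (pr 4).smulRight e₄
  have hNx : ∀ x : V5, N x = x 0 • u + x 1 • v + x 2 • r + x 3 • e₃ + x 4 • e₄ := fun x => rfl
  have huuH : H u u = 1 := by rw [hu, hg]; decide +kernel
  have hvvH : H v v = 1 := by rw [hv, hg]; decide +kernel
  have huvH : H u v = 0 := by rw [hu, hv, hg]; decide +kernel
  have hN : ∀ x y, H (N x) (N y) = H x y := by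
    intro x y
    have z : ∀ w : V5, w 3 = 0 → w 4 = 0 → H w e₃ = 0 ∧ H e₃ w = 0 ∧ H w e₄ = 0 ∧ H e₄ w = 0 := by
      intro w h3 h4
      simp [Cfsg.hermForm, Fin.sum_univ_five, he₃, he₄, mk, h3, h4]
    obtain ⟨u3, u3', u4, u4'⟩ := z u hu3 hu4
    obtain ⟨v3, v3', v4, v4'⟩ := z v hv3 hv4
    obtain ⟨r3, r3', r4, r4'⟩ := z r rfl rfl
    have e33 : H e₃ e₃ = 1 ∧ H e₄ e₄ = 1 ∧ H e₃ e₄ = 0 ∧ H e₄ e₃ = 0 := by rw [he₃, he₄]; decide +kernel
    simp only [hNx, H_add_left, H_add_right hF, H_smul_left, H_smul_right, huuH, hvvH, huvH, zero_comm.1 huvH, hur,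
      zero_comm.1 hur, hvr, zero_comm.1 hvr, hrr, u3, u3', u4, u4', v3, v3', v4, v4', r3, r3', r4, r4', e33.1,
      e33.2.1, e33.2.2.1, e33.2.2.2, mul_zero, add_zero, zero_add, mul_one]
    simp only [Cfsg.hermForm, Fin.sum_univ_five]
    ring
  obtain ⟨k, hk, hkN⟩ := exists_equiv N hN
  refine ⟨k.trans f₁, fun x y => by rw [LinearEquiv.trans_apply, LinearEquiv.trans_apply, hf₁, hk], ?_⟩
  have P3 := P1.comp hk
  have hlow012 : ∀ x : V5, Low x → x ≠ 0 → H x x = 0 → S (f₁ (k x)) := by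
    intro x hx hx0 hxx
    refine (low_mem P1 h9 ?_ (fun e => hx0 (k.injective (by rw [e, map_zero]))) (by rw [hk]; exact hxx)).2
    rw [hkN]
    constructor <;>
      simp only [hNx, Pi.add_apply, Pi.smul_apply, smul_eq_mul, hu3, hu4, hv3, hv4, hx.1, hx.2, zero_mul, mul_zero,
        add_zero, zero_add] <;>
      simp [hr, mk]
  have hhigh : ∀ x : V5, High x → x ≠ 0 → H x x = 0 → S (f₁ (k x)) := by
    intro x hx hx0 hxx
    obtain ⟨y, hy⟩ := g.surjective (k x)
    have c3 : y 3 = 0 := by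
      have : H y (mk 0 0 0 1 0) = H (k x) u := by rw [← hy, hu, hg]
      rw [hkN, show u = N (mk 1 0 0 0 0) by simp [hNx, mk], hN] at this
      simpa [Cfsg.hermForm, Fin.sum_univ_five, mk, hx.1] using this
    have c4 : y 4 = 0 := by
      have : H y (mk 0 0 0 0 1) = H (k x) v := by rw [← hy, hv, hg]
      rw [hkN, show v = N (mk 0 1 0 0 0) by simp [hNx, mk], hN] at this
      simpa [Cfsg.hermForm, Fin.sum_univ_five, mk, hx.2] using this
    rw [← hy]
    refine (low_mem P2 g9 ⟨c3, c4⟩ (fun e => hx0 (k.injective (by rw [← hy, e, map_zero, map_zero]))) ?_).2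
    rw [← hg, hy, hk]; exact hxx
  have hall : ∀ x : V5, Wt x → S (f₁ (k x)) := by
    intro x hx
    have hx0 : x ≠ 0 := fun e => by rw [e] at hx; simp [Wt] at hx
    have hxx : ∀ a b c d e : FF, Wt (mk a b c d e) → H (mk a b c d e) (mk a b c d e) = 0 := by decide +kernel
    rw [eq_mk x] at hx hx0 ⊢
    have hh := hxx _ _ _ _ _ hx
    rcases wt_cases _ _ _ _ _ hx with h | h | ⟨i, j, t, ht0, c, hc, e⟩
    · exact hlow012 _ h hx0 hh
    · exact hhigh _ h hx0 hh
    have l1 : ∀ i : Fin 2, Low (mk (![1, 0] i) (![0, 1] i) 1 0 0) ∧ mk (![1, 0] i) (![0, 1] i) (1 : FF) 0 0 ≠ 0 ∧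
        H (mk (![1, 0] i) (![0, 1] i) 1 0 0) (mk (![1, 0] i) (![0, 1] i) 1 0 0) = 0 := by decide +kernel
    have l2 : ∀ (j : Fin 2) (t : FF), t ≠ 0 → High (mk 0 0 1 (![t, 0] j) (![0, t] j)) ∧
        mk 0 0 (1 : FF) (![t, 0] j) (![0, t] j) ≠ 0 ∧
        H (mk 0 0 1 (![t, 0] j) (![0, t] j)) (mk 0 0 1 (![t, 0] j) (![0, t] j)) = 0 := by decide +kernel
    obtain ⟨a1, a2, a3⟩ := l1 i
    obtain ⟨b1, b2, b3⟩ := l2 j t ht0
    rw [e]
    exact (P3.smul hc).2 (P3.third (hlow012 _ a1 a2 a3) (hhigh _ b1 b2 b3))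
  intro w
  refine ⟨fun h => ?_, hall w⟩
  by_contra hn
  rw [eq_mk w] at h hn
  exact P3.of_split h hn hall

end Cfsg.Agent.Fischer.Unit.Five
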