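import Cfsg.Agent.Lib.Fischer.Unit.Model
import Cfsg.Agent.Lib.ThreeTransp.Classes

/-!
The common neighbours of a non-commuting pair as a set of points.
-/

set_option autoImplicit false
set_option linter.unusedSectionVars false

namespace Cfsg.Agent.Fischer.Unit

open Cfsg.Agent.InvChar.Coset (FF)
open Cfsg.Agent.Classical.Unitary
open Cfsg.Agent.ThreeTransp
open Cfsg.Agent.ThreeTransp.Factor (nb)

universe u

variable {G : Type u} [Group G] {D : Set G} {n : ℕ}

local notation "Vec" => (Fin n → FF)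
local notation "H" => Cfsg.hermForm n FF 2

/-- Every local group is unitary of dimension `n`. -/
structure Ctx (D : Set G) (n : ℕ) : Prop where
  grp : Cfsg.IsThreeTranspositionGroup D
  mods : ∀ a ∈ D, Nonempty (Mod (nb D a) n)
  four : 4 ≤ n

theorem conj_nb (hD : Cfsg.IsThreeTranspositionGroup D) (g x : G) :
    (fun a => g * a * g⁻¹) '' nb D x = nb D (g * x * g⁻¹) := by
  ext y
  constructor
  · rintro ⟨a, ⟨ha, hne, hc⟩, rfl⟩
    exact ⟨hD.2.1 g a ha, fun e => hne (mul_left_cancel (mul_right_cancel e)), Basic.commute_conj.2 hc⟩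
  · rintro ⟨hy, hne, hc⟩
    refine ⟨g⁻¹ * y * g, ⟨by simpa using hD.2.1 g⁻¹ y hy, fun e => hne ?_, ?_⟩, by group⟩
    · rw [← e]; group
    · have := (Basic.commute_conj (g := g⁻¹)).2 hc
      simpa [mul_assoc] using this

theorem ctx_of (hD : Std D) (hn : 4 ≤ n) {x : G} (hx : x ∈ D) (h : GIso (nb D x) (uR n)) : Ctx D n := by
  refine ⟨hD.grp, fun a ha => ?_, hn⟩
  obtain ⟨g, rfl⟩ := hD.prim.1 x hx a ha
  obtain ⟨M⟩ := exists_mod h
  exact ⟨conj_nb hD.grp g x ▸ M.conj g⟩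

theorem conj_com (hD : Cfsg.IsThreeTranspositionGroup D) {x c a b : G} (ha : a ∈ com D x c) (hb : b ∈ com D x c) :
    a * b * a ∈ com D x c := by
  have ha2 := Classes.sq hD ha.1.1
  have key : ∀ y, y ∈ nb D x → Commute x a → Commute x y → a * y * a ∈ D ∧ Commute x (a * y * a) := fun y hy h1 h2 =>
    ⟨Classes.conj_mem hD ha.1.1 hy.1, (h1.mul_right h2).mul_right h1⟩
  obtain ⟨hD', hcx⟩ := key b hb.1 ha.1.2.2 hb.1.2.2
  have hcc : Commute c (a * b * a) := (ha.2.2.2.mul_right hb.2.2.2).mul_right ha.2.2.2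
  have hne : ∀ y : G, Commute y a → b ≠ y → a * b * a ≠ y := fun y hy hby e => hby (by
    calc b = (a * a) * b * (a * a) := by rw [ha2, one_mul, mul_one]
      _ = a * (a * b * a) * a := by group
      _ = y := by rw [e, ← hy.eq, mul_assoc, ha2, mul_one])
  exact ⟨⟨hD', hne x ha.1.2.2 hb.1.2.1, hcx⟩, hD', hne c ha.2.2.2 hb.2.2.1, hcc⟩

theorem conj_nb_closed (hD : Cfsg.IsThreeTranspositionGroup D) {x a b : G} (ha : a ∈ nb D x) (hb : b ∈ nb D x) :
    a * b * a ∈ nb D x := by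
  have ha2 := Classes.sq hD ha.1
  refine ⟨Classes.conj_mem hD ha.1 hb.1, fun e => hb.2.1 ?_, (ha.2.2.mul_right hb.2.2).mul_right ha.2.2⟩
  calc b = (a * a) * b * (a * a) := by rw [ha2, one_mul, mul_one]
    _ = a * (a * b * a) * a := by group
    _ = x := by rw [e, ← ha.2.2.eq, mul_assoc, ha2, mul_one]

variable {x c : G} (M : Mod (nb D x) n)

/-- The point is that of a common neighbour of `x` and `c`. -/
def InA (c : G) (w : Fin n → FF) : Prop := ∃ y ∈ com D x c, ∃ k : FF, k ≠ 0 ∧ M.v y = k • w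

theorem inA_iso {w : Vec} (h : InA M c w) : w ≠ 0 ∧ H w w = 0 := by
  obtain ⟨y, hy, k, hk, e⟩ := h
  refine ⟨fun e0 => M.ne hy.1 (by rw [e, e0, smul_zero]), ?_⟩
  have := M.iso hy.1
  rw [e, H_smul_left, H_smul_right, mul_eq_zero, mul_eq_zero, or_iff_right hk,
    or_iff_right (pow_ne_zero _ hk)] at this
  exact this

theorem inA_smul {w : Vec} {k : FF} (hk : k ≠ 0) : InA M c (k • w) ↔ InA M c w := by
  constructor
  · rintro ⟨y, hy, d, hd, e⟩; exact ⟨y, hy, d * k, mul_ne_zero hd hk, by rw [e, smul_smul]⟩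
  · rintro ⟨y, hy, d, hd, e⟩
    exact ⟨y, hy, d * k⁻¹, mul_ne_zero hd (inv_ne_zero hk), by rw [e, smul_smul, mul_assoc, inv_mul_cancel₀ hk, mul_one]⟩

theorem inA_third (C : Ctx D n) {w w' : Vec} (h : InA M c w) (h' : InA M c w') :
    InA M c (w' + H w' w • w) := by
  obtain ⟨a, ha, k, hk, ea⟩ := h
  obtain ⟨b, hb, l, hl, eb⟩ := h'
  obtain ⟨d, hd, e⟩ := M.third C.four (Basic.mono C.grp.1 fun y hy => hy.1)
    (fun a ha b hb => conj_nb_closed C.grp ha hb) ha.1 hb.1
  refine ⟨_, conj_com C.grp ha hb, d * l, mul_ne_zero hd hl, ?_⟩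
  have hk3 : k * k ^ 2 = 1 := by
    rw [← pow_succ']; exact GroupStructure3.ThreeTransUnitary.cube hF hk
  rw [e, ea, eb, H_smul_left, H_smul_right, smul_smul (l * (k ^ 2 * H w' w)) k w,
    show l * (k ^ 2 * H w' w) * k = l * H w' w * (k * k ^ 2) by ring, hk3, mul_one]
  module

/-- A line through a point of the set has just one other of its points. -/
theorem inA_line (C : Ctx D n) (hx : x ∈ D) (hc : c ∈ D) (hxc : ¬ Commute x c) {w p : Vec} (hw : InA M c w)
    (hp : H p p = 0) (hpw : H p w = 0) (hli : ∀ t : FF, p ≠ t • w) :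
    (∃ σ : FF, InA M c (p + σ • w)) ∧ ∀ σ σ' : FF, InA M c (p + σ • w) → InA M c (p + σ' • w) → σ = σ' := by
  obtain ⟨a, ha, k, hk, ea⟩ := hw
  obtain ⟨Ma⟩ := C.mods a ha.1.1
  have hk' : w = k⁻¹ • M.v a := by rw [ea, smul_smul, inv_mul_cancel₀ hk, one_smul]
  have hp0 : p ≠ 0 := fun e => hli 0 (by rw [e, zero_smul])
  constructor
  · obtain ⟨pm, hpm, l, hl, el⟩ := M.surj p hp0 hp
    have hpa : Commute pm a := (M.comm_smul hl ha.1 hpm el).2 (by rw [ea, H_smul_right, hpw, mul_zero])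
    have hpne : pm ≠ a := fun e => hli (l⁻¹ * k) (by
      rw [mul_smul, ← ea, ← e, el, smul_smul, inv_mul_cancel₀ hl, one_smul])
    have hpcom : pm ∈ com D x a := ⟨hpm, hpm.1, hpne, hpa.symm⟩
    obtain ⟨q, hq, htw⟩ := exists_tw Ma hx hc hxc ha hpcom
    obtain ⟨α, β, hα, e⟩ := (tw_iff M ha.1 hpcom ⟨hq.1.1, hq.2⟩).1 htw
    refine ⟨(α * l)⁻¹ * (β * k), q, hq.1, α * l, mul_ne_zero hα hl, ?_⟩
    rw [e, el, ea, smul_add, smul_smul, smul_smul, smul_smul, ← mul_assoc, mul_inv_cancel₀ (mul_ne_zero hα hl),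
      one_mul]
  · intro σ σ' h h'
    obtain ⟨q, hq, l, hl, eq⟩ := h
    obtain ⟨q', hq', l', hl', eq'⟩ := h'
    have horth : ∀ t : FF, H (p + t • w) (M.v a) = 0 := fun t => by
      have hww : H w w = 0 := (inA_iso M ⟨a, ha, k, hk, ea⟩).2
      rw [ea, H_smul_right, H_add_left, H_smul_left, hpw, hww]
      ring
    have mem : ∀ (q : G) (l t : FF), q ∈ com D x c → l ≠ 0 → M.v q = l • (p + t • w) → q ∈ nb D a := by
      intro q l t hq hl e
      refine ⟨hq.1.1, fun eqa => hli (l⁻¹ * k + t) ?_, ((M.comm_smul hl ha.1 hq.1 e).2 (horth t)).symm⟩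
      have e1 : p + t • w = (l⁻¹ * k) • w := by
        rw [mul_smul, ← ea, ← eqa, e, smul_smul, inv_mul_cancel₀ hl, one_smul]
      rw [add_smul, ← e1, add_assoc, ← add_smul, ← two_mul, ff_two, zero_mul, zero_smul, add_zero]
    have hqa := mem q l σ hq hl eq
    have hq'a := mem q' l' σ' hq' hl' eq'
    have htw : Tw D x a q q' := (tw_iff M ha.1 ⟨hq.1, hqa⟩ ⟨hq'.1, hq'a⟩).2
      ⟨l' * l⁻¹, l' * (σ' + σ) * k⁻¹, mul_ne_zero hl' (inv_ne_zero hl), by
        rw [eq, eq', mul_smul (l' * (σ' + σ)), ← hk', smul_smul, mul_assoc, inv_mul_cancel₀ hl, mul_one]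
        simp only [smul_add, add_smul, mul_add, smul_smul]
        rw [show l' • p + (l' * σ) • w + ((l' * σ') • w + (l' * σ) • w) =
          l' • p + (l' * σ') • w + ((l' * σ) • w + (l' * σ) • w) by abel, ← add_smul (l' * σ), ← two_mul, ff_two,
          zero_mul, zero_smul, add_zero]⟩
    have := tw_unique Ma hx hc hxc ha ⟨hq, hqa⟩ ⟨hq', hq'a⟩ htw
    subst this
    rw [eq, smul_add, smul_add, smul_smul, smul_smul] at eq'
    by_cases hll : l = l'
    · subst hll
      have := add_left_cancel eq'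
      exact mul_left_cancel₀ hl (smul_left_injective FF (inA_iso M ⟨a, ha, k, hk, ea⟩).1 this)
    · exfalso
      have : (l - l') • p = (l' * σ' - l * σ) • w := by linear_combination (norm := module) eq'
      refine hli ((l - l')⁻¹ * (l' * σ' - l * σ)) ?_
      rw [mul_smul, ← this, smul_smul, inv_mul_cancel₀ (sub_ne_zero.2 hll), one_smul]

end Cfsg.Agent.Fischer.Unit
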