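import Cfsg.Agent.Lib.Fischer.Local.Comp
import Cfsg.Agent.Lib.Fischer.Unit.Local
import Cfsg.Agent.Lib.Fischer.Unit.FiveShape

/-!
No local group is unitary of dimension five: the common neighbours would be the points of weight two of a frame, and
there are too many of those frames on three points.
-/

set_option autoImplicit false
set_option linter.unusedSectionVars false

namespace Cfsg.Agent.Fischer.Unit.Five

open Cfsg.Agent.InvChar.Coset (FF)
open Cfsg.Agent.Classical.Unitary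
open Cfsg.Agent.ThreeTransp
open Cfsg.Agent.ThreeTransp.Factor (nb)
open Cfsg.Agent.ThreeTransp.Cover (mem_nb_symm)

universe u

local notation "V5" => (Fin 5 → FF)
local notation "H" => Cfsg.hermForm 5 FF 2

/-- A transvection. -/
def tv (q w : Fin 5 → FF) : Fin 5 → FF := w + Cfsg.hermForm 5 FF 2 w q • q

/-- A product of transvections. -/
def app : List (Fin 5 → FF) → (Fin 5 → FF) → (Fin 5 → FF)
  | [], w => w
  | q :: r, w => app r (tv q w)

/-- Words moving the frame around three of its points. -/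
def word : Fin 5 → List (Fin 5 → FF) :=
  ![[],
    [mk 0 1 .w .w .w, mk 0 1 1 1 1],
    [mk 0 1 .w2 .w2 .w2, mk 0 1 1 1 1],
    [mk 0 1 .w .w .w2, mk 0 1 1 1 .w],
    [mk 1 0 1 .w 1, mk 0 1 1 1 .w]]

/-- The three points. -/
def three : Fin 3 → (Fin 5 → FF) := ![mk 1 1 0 0 0, mk 1 .w 0 0 0, mk 0 0 0 1 1]

theorem three_spec : ∀ i, three i ≠ 0 ∧ H (three i) (three i) = 0 ∧ Wt (three i) := by decide +kernel

theorem three_pairs : H (three 0) (three 1) ≠ 0 ∧ H (three 0) (three 2) = 0 ∧ H (three 1) (three 2) = 0 ∧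
    (∀ k : FF, three 2 ≠ k • three 0) ∧ ∀ k : FF, three 2 ≠ k • three 1 := by
  decide +kernel

theorem word_spec : ∀ i, (∀ q ∈ word i, q ≠ 0 ∧ H q q = 0) ∧ ∀ j, Wt (app (word i) (three j)) := by
  decide +kernel

theorem word_sep : ∀ i j, i ≠ j → ∃ a b c d e : FF, ¬(Wt (app (word i) (mk a b c d e)) ↔ Wt (app (word j) (mk a b c d e))) := by
  decide +kernel

theorem tv_tv {q : V5} (hq : H q q = 0) (w : V5) : tv q (tv q w) = w := by
  simp only [tv, H_add_left, H_smul_left, hq, mul_zero, add_zero]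
  rw [add_assoc, ← add_smul, ← two_mul, ff_two, zero_mul, zero_smul, add_zero]

variable {G : Type u} [Group G] [Finite G] {D : Set G} {x : G}

theorem conj_into (C : Ctx D 5) (M : Mod (nb D x) 5) {y c : G} (hy : y ∈ nb D x) {l : FF} (hl : l ≠ 0)
    {q : V5} (e : M.v y = l • q) {w : V5} (h : InA M c w) : InA M (y * c * y) (tv q w) := by
  obtain ⟨z, hz, k, hk, ez⟩ := h
  have hyi : y⁻¹ = y := Classes.inv C.grp hy.1
  have hfix : y * x * y⁻¹ = x := RankThree.conj_self_of_commute hy.2.2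
  have h1 := Cover.conj_nb C.grp y hz.1
  have h2 := Cover.conj_nb C.grp y hz.2
  rw [hfix] at h1
  rw [hyi] at h1 h2
  obtain ⟨d, hd, ev⟩ := M.third C.four (Basic.mono C.grp.1 fun y hy => hy.1)
    (fun a ha b hb => conj_nb_closed C.grp ha hb) hy hz.1
  refine ⟨_, ⟨h1, h2⟩, d * k, mul_ne_zero hd hk, ?_⟩
  have hl3 : l * l ^ 2 = 1 := by rw [← pow_succ']; exact GroupStructure3.ThreeTransUnitary.cube hF hl
  rw [ev, ez, e, tv, H_smul_left, H_smul_right, smul_smul (k * (l ^ 2 * H w q)) l q,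
    show k * (l ^ 2 * H w q) * l = k * H w q * (l * l ^ 2) by ring, hl3, mul_one]
  module

theorem exists_far (C : Ctx D 5) (M : Mod (nb D x) 5) {c : G} (hc : c ∈ D) (hxc : ¬ Commute x c)
    (hc0 : ∀ w, InA M c w ↔ Wt w) :
    ∀ L : List V5, (∀ q ∈ L, q ≠ 0 ∧ H q q = 0) →
      ∃ c' ∈ D, ¬ Commute x c' ∧ ∀ w, InA M c' w ↔ Wt (app L w) := by
  intro L hL
  induction L with
  | nil => exact ⟨c, hc, hxc, hc0⟩
  | cons q r ih =>
    obtain ⟨c', hc', hxc', h⟩ := ih fun p hp => hL p (List.mem_cons_of_mem _ hp)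
    obtain ⟨hq0, hq⟩ := hL q List.mem_cons_self
    obtain ⟨y, hy, l, hl, e⟩ := M.surj q hq0 hq
    have hyy : y * y = 1 := Classes.sq C.grp hy.1
    have hback : y * (y * c' * y) * y = c' := by
      rw [show y * (y * c' * y) * y = (y * y) * c' * (y * y) by group, hyy, one_mul, mul_one]
    refine ⟨y * c' * y, Classes.conj_mem C.grp hy.1 hc', fun k => hxc' ?_, fun w => ⟨fun hw => ?_, fun hw => ?_⟩⟩
    · rw [← hback]
      exact (hy.2.2.mul_right k).mul_right hy.2.2
    · have := conj_into C M hy hl e hw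
      rwa [hback, h] at this
    · have := conj_into C M hy hl e ((h _).2 hw)
      rwa [tv_tv hq] at this

theorem perp_pair {p₁ p₂ : V5} (h1 : H p₁ p₁ = 0) (h2 : H p₂ p₂ = 0) (h12 : H p₁ p₂ ≠ 0) :
    ∃ φ : V5 → V5, (∀ (k : FF) p, φ (k • p) = k • φ p) ∧ Function.Injective φ ∧ ∀ p, p ≠ 0 → H p p = 0 → H p p₁ = 0 →
      H p p₂ = 0 → ∃ i, ∃ k : FF, k ≠ 0 ∧ φ p = k • nine i := by
  set u : V5 := (H p₁ p₂)⁻¹ • p₁ with hu
  have hu1 : H u u = 0 := by rw [hu, H_smul_left, H_smul_right, h1, mul_zero, mul_zero]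
  have hu2 : H u p₂ = 1 := by rw [hu, H_smul_left, inv_mul_cancel₀ h12]
  have li : ∀ {a b : V5}, H a a = 0 → H a b = 1 → LinearIndependent FF ![a, b] := fun {a b} haa hab => by
    rw [LinearIndependent.pair_iff]
    intro s t e
    have e1 : H (s • a + t • b) a = 0 := by rw [e, H_zero_left]
    rw [H_add_left, H_smul_left, H_smul_left, haa, one_comm hab, mul_zero, zero_add, mul_one] at e1
    refine ⟨?_, e1⟩
    rw [e1, zero_smul, add_zero] at e
    exact (smul_eq_zero.1 e).resolve_right fun e' => one_ne_zero (α := FF) (by rw [← hab, e', H_zero_left])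
  have q : H (mk 0 0 0 1 1) (mk 0 0 0 1 1) = 0 ∧ H (mk 0 0 0 1 1) (mk 0 0 0 .w .w2) = 1 ∧
      H (mk 0 0 0 .w .w2) (mk 0 0 0 .w .w2) = 0 := by decide +kernel
  obtain ⟨g, g1, g2⟩ := exists_gu_map_pair hF (li hu1 hu2) (li q.1 q.2.1) (by rw [hu1, q.1]) (by rw [hu2, q.2.1])
    (by rw [h2, q.2.2])
  obtain ⟨F', hF', hF'g⟩ := exists_equiv (Matrix.mulVecLin (gmat g)) fun x y => GU_H g x y
  refine ⟨F', fun k p => map_smul F' k p, F'.injective, fun p hp0 hp hpa hpb => ?_⟩
  have e1 : H (F' p) (mk 0 0 0 1 1) = 0 := by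
    rw [← g1, ← Matrix.mulVecLin_apply, ← hF'g, hF', hu, H_smul_right, hpa, mul_zero]
  have e2 : H (F' p) (mk 0 0 0 .w .w2) = 0 := by
    rw [← g2, ← Matrix.mulVecLin_apply, ← hF'g, hF', hpb]
  have key : ∀ d e : FF, d + e = 0 → d * FF.w ^ 2 + e * FF.w2 ^ 2 = 0 → d = 0 ∧ e = 0 := by decide +kernel
  obtain ⟨hd, he⟩ := key (F' p 3) (F' p 4) (by simpa [Cfsg.hermForm, Fin.sum_univ_five, mk] using e1)
    (by simpa [Cfsg.hermForm, Fin.sum_univ_five, mk] using e2)
  have hne : F' p ≠ 0 := fun e => hp0 (F'.injective (by rw [e, map_zero]))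
  have hiso : H (F' p) (F' p) = 0 := by rw [hF', hp]
  rw [eq_mk (F' p), hd, he] at hne hiso ⊢
  exact (nine_spec _ _ _ hne hiso).2

/-- There is no local group of type U₅. -/
theorem five_false (hD : Std D) (hx : x ∈ D) (hE : GIso (nb D x) (uR 5)) : False := by
  classical
  have C : Ctx D 5 := ctx_of hD (by norm_num) hx hE
  obtain ⟨M⟩ := C.mods x hx
  obtain ⟨c, hc, hxc⟩ : ∃ c ∈ D, ¬ Commute x c := by
    by_contra! h
    exact (Std.space hD).not_central hx h
  have P : PSet (fun w => InA M c w) :=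
    ⟨fun h => (inA_iso M h).1, fun h => (inA_iso M h).2, fun hk => inA_smul M hk,
      fun h h' => inA_third M C h h', fun hw hp hpw hli => inA_line M C hx hc hxc hw hp hpw hli⟩
  obtain ⟨f, hf, hfS⟩ := shape P (by
    obtain ⟨a, ha⟩ := hD.com_nonempty hx hc hxc
    exact ⟨M.v a, a, ha, 1, one_ne_zero, (one_smul _ _).symm⟩)
  set M' := M.map f.symm (fun u v => by rw [← hf, f.apply_symm_apply, f.apply_symm_apply]) with hM'
  have hc0 : ∀ w, InA M' c w ↔ Wt w := fun w => by
    rw [← hfS]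
    constructor
    · rintro ⟨y, hy, k, hk, e⟩
      exact ⟨y, hy, k, hk, by rw [← map_smul, ← e]; exact (f.apply_symm_apply _).symm⟩
    · rintro ⟨y, hy, k, hk, e⟩
      exact ⟨y, hy, k, hk, by show f.symm (M.v y) = _; rw [e, map_smul, f.symm_apply_apply]⟩
  choose cs hcs hxcs hInA using fun i => exists_far C M' hc hxc hc0 (word i) (word_spec i).1
  choose t ht kt hkt het using fun j => M'.surj (three j) (three_spec j).1 (three_spec j).2.1
  have tmem : ∀ i j, t j ∈ com D x (cs i) := by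
    intro i j
    obtain ⟨y, hy, k, hk, e⟩ := (hInA i (three j)).2 ((word_spec i).2 j)
    have : t j = y := M'.inj (ht j) hy.1 (k * (kt j)⁻¹) (by
      rw [e, het, smul_smul, mul_assoc, inv_mul_cancel₀ (hkt j), mul_one])
    exact this ▸ hy
  obtain ⟨p01, p02, p12, n02, n12⟩ := three_pairs
  have tcomm : ∀ i j, Commute (t i) (t j) ↔ H (three i) (three j) = 0 := fun i j => by
    rw [M'.comm (ht i) (ht j), het, het, H_smul_left, H_smul_right, mul_eq_zero, mul_eq_zero,
      or_iff_right (hkt i), or_iff_right (pow_ne_zero _ (hkt j))]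
  have tne : ∀ j, (∀ k : FF, three 2 ≠ k • three j) → t 2 ≠ t j := fun j hj e => hj ((kt 2)⁻¹ * kt j) (by
    rw [mul_smul, ← het, ← e, het, smul_smul, inv_mul_cancel₀ (hkt 2), one_smul])
  have hb : t 2 ∈ D := (ht 2).1
  have h0b : t 0 ∈ nb D (t 2) := ⟨(ht 0).1, (tne 0 n02).symm, ((tcomm 0 2).2 p02).symm⟩
  have h1b : t 1 ∈ nb D (t 2) := ⟨(ht 1).1, (tne 1 n12).symm, ((tcomm 1 2).2 p12).symm⟩
  obtain ⟨Mb⟩ := C.mods _ hb
  obtain ⟨φ, hφs, hφi, hφ⟩ := perp_pair (Mb.iso h0b) (Mb.iso h1b)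
    fun e => p01 ((tcomm 0 1).1 ((Mb.comm h0b h1b).2 e))
  have hxx : x * x = 1 := Classes.sq C.grp hx
  have hxi : x⁻¹ = x := Classes.inv C.grp hx
  have hcomx : ∀ i, com D x (x * cs i * x) = com D x (cs i) := by
    intro i
    have key : ∀ d, com D x d ⊆ com D x (x * d * x) := fun d y hy => by
      have h := Cover.conj_nb C.grp x hy.2
      rw [RankThree.conj_self_of_commute hy.1.2.2.symm, hxi] at h
      exact ⟨hy.1, h⟩
    refine Set.Subset.antisymm ?_ (key _)
    have := key (x * cs i * x)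
    rwa [show x * (x * cs i * x) * x = (x * x) * cs i * (x * x) by group, hxx, one_mul, mul_one] at this
  have sep : ∀ i j, com D x (cs i) = com D x (cs j) → i = j := by
    intro i j e
    by_contra hij
    obtain ⟨a, b, c', d, e', hw⟩ := word_sep i j hij
    exact hw (by rw [← hInA, ← hInA]; unfold InA; rw [e])
  -- the eleven members
  let g : Option (Fin 5 × Bool) → G := fun o =>
    o.elim x fun p => if p.2 then x * cs p.1 * x else cs p.1
  have gD : ∀ o, g o ∈ D := by
    rintro (_ | ⟨i, _ | _⟩)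
    exacts [hx, hcs i, Classes.conj_mem C.grp hx (hcs i)]
  have gfar : ∀ p, ¬ Commute x (g (some p)) := by
    rintro ⟨i, _ | _⟩ k
    · exact hxcs i k
    · refine hxcs i ?_
      have k' : Commute x (x * (x * cs i * x) * x) := ((Commute.refl x).mul_right k).mul_right (Commute.refl x)
      rwa [show x * (x * cs i * x) * x = (x * x) * cs i * (x * x) by group, hxx, one_mul, mul_one] at k'
  have gcom : ∀ i b, com D x (g (some (i, b))) = com D x (cs i) := by
    rintro i (_ | _)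
    exacts [rfl, hcomx i]
  have ginj : Function.Injective g := by
    rintro (_ | ⟨i, b⟩) (_ | ⟨j, b'⟩) e
    · rfl
    · exact absurd (Commute.refl x) (fun _ => gfar (j, b') (by rw [← e]; exact Commute.refl x))
    · exact absurd (Commute.refl x) (fun _ => gfar (i, b) (by rw [e]; exact Commute.refl x))
    obtain rfl : i = j := sep i j (by rw [← gcom i b, ← gcom j b', e])
    have : cs i ≠ x * cs i * x := fun k => hxcs i (by
      show x * cs i = cs i * x
      conv_rhs => rw [k, mul_assoc, hxx, mul_one])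
    rcases b with _ | _ <;> rcases b' with _ | _
    · rfl
    · exact absurd e this
    · exact absurd e.symm this
    · rfl
  have gall : ∀ o j, t j ∈ nb D (g o) := by
    rintro (_ | ⟨i, b⟩) j
    · exact ht j
    · exact ((gcom i b).ge (tmem i j)).2
  have gb : ∀ o, g o ∈ nb D (t 2) := fun o => mem_nb_symm (gD o) (gall o 2)
  have hpt : ∀ o, ∃ i, ∃ k : FF, k ≠ 0 ∧ φ (Mb.v (g o)) = k • nine i := fun o =>
    hφ _ (Mb.ne (gb o)) (Mb.iso (gb o)) ((Mb.comm (gb o) h0b).1 (gall o 0).2.2)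
      ((Mb.comm (gb o) h1b).1 (gall o 1).2.2)
  choose ix kx hkx hix using hpt
  have ixinj : Function.Injective ix := fun o o' e => ginj (Mb.inj (gb o) (gb o') (kx o' * (kx o)⁻¹) (hφi (by
    rw [hφs, hix, hix, smul_smul, mul_assoc, inv_mul_cancel₀ (hkx o), mul_one, e])))
  have := Fintype.card_le_of_injective ix ixinj
  simp [Fintype.card_option] at this

end Cfsg.Agent.Fischer.Unit.Five
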