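import Cfsg.Agent.Lib.Fischer.Local.Comp
import Cfsg.Agent.Lib.Fischer.Unit.Local
import Cfsg.Agent.Lib.Classical.UnitaryCount

/-!
The unitary graph: the perp of a non-commuting pair is one of dimension two less, it is good enough to be a local
common set, and its parameters.
-/

set_option autoImplicit false
set_option linter.unusedSectionVars false

namespace Cfsg.Agent.Fischer.Unit

open Cfsg.Agent.InvChar.Coset (FF)
open Cfsg.Agent.Classical.Unitary
open Cfsg.Agent.ThreeTransp
open Cfsg.Agent.ThreeTransp.Factor (nb)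

universe u

variable {G : Type u} [Group G] {E : Set G} {n m : ℕ}

local notation "Vec" => (Fin n → FF)
local notation "H" => Cfsg.hermForm n FF 2

namespace Mod

/-- A labelling gives the graph. -/
theorem giso (M : Mod E n) : GIso E (uR n) := by
  let φ : E → UP n := fun a => ⟨Submodule.span FF {M.v a}, M.v a, M.ne a.2, M.iso a.2, rfl⟩
  refine ⟨Equiv.ofBijective φ ⟨fun a b e => ?_, fun L => ?_⟩, fun a b => ?_⟩
  · have e' : Submodule.span FF {M.v a} = Submodule.span FF {M.v b} := congrArg Subtype.val e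
    obtain ⟨c, hc⟩ := Submodule.mem_span_singleton.1 (e' ▸ Submodule.mem_span_singleton_self (M.v b))
    exact Subtype.ext (M.inj a.2 b.2 c hc.symm)
  · obtain ⟨L, w, hw0, hw, rfl⟩ := L
    obtain ⟨a, ha, c, hc, e⟩ := M.surj w hw0 hw
    refine ⟨⟨a, ha⟩, Subtype.ext ?_⟩
    show Submodule.span FF {M.v a} = _
    rw [e]; exact Submodule.span_singleton_smul_eq (IsUnit.mk0 c hc) _
  · rw [M.comm a.2 b.2]
    show _ ↔ uR n (φ a) (φ b)
    refine ⟨fun h x hx y hy => ?_,
      fun h => h _ (Submodule.mem_span_singleton_self _) _ (Submodule.mem_span_singleton_self _)⟩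
    obtain ⟨c, rfl⟩ := Submodule.mem_span_singleton.1 hx
    obtain ⟨d, rfl⟩ := Submodule.mem_span_singleton.1 hy
    rw [H_smul_left, H_smul_right, h, mul_zero, mul_zero]

theorem exists_mem (M : Mod E n) {w : Vec} (hw0 : w ≠ 0) (hw : H w w = 0) :
    ∃ y ∈ E, (∀ b ∈ E, Commute y b ↔ H w (M.v b) = 0) ∧ ∀ b ∈ E, y = b → ∃ t : FF, w = t • M.v b := by
  obtain ⟨y, hy, k, hk, e⟩ := M.surj w hw0 hw
  exact ⟨y, hy, fun b hb => M.comm_smul hk hb hy e, fun b _ h => ⟨k⁻¹, by
    rw [← h, e, smul_smul, inv_mul_cancel₀ hk, one_smul]⟩⟩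

theorem conj_noncomm (htt : Cfsg.IsThreeTranspositionSet E) {p q : G} (hp : p ∈ E) (hq : q ∈ E)
    (h : ¬ Commute p q) : ∃ g ∈ Subgroup.closure E, g * p * g⁻¹ = q := by
  refine ⟨p * q, mul_mem (Subgroup.subset_closure hp) (Subgroup.subset_closure hq), ?_⟩
  rw [mul_inv_rev, Basic.inv_eq htt hp, Basic.inv_eq htt hq,
    show p * q * p * (q * p) = p * q * p * q * p by group, Basic.braid htt hp hq h,
    show q * p * q * q * p = q * p * (q * q) * p by group, Basic.sq htt hq, mul_one, mul_assoc, Basic.sq htt hp,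
    mul_one]

/-- The graph has no twins and a transitive group. -/
theorem localOK (M : Mod E n) (hn : 4 ≤ n) (htt : Cfsg.IsThreeTranspositionSet E) : LocalOK E := by
  have partner : ∀ p ∈ E, ∃ r : Vec, H r r = 0 ∧ H r (M.v p) = 1 := fun p hp => by
    obtain ⟨z, -, hz⟩ := UnitaryPoints.exists_partner' hF (M.iso hp) (M.ne hp)
    obtain ⟨τ, h1, h2⟩ := exists_iso_shift (M.iso hp) hz
    exact ⟨_, h1, h2⟩
  have nz : ∀ {r z : Vec}, H r z = 1 → r ≠ 0 := fun h e => by rw [e, H_zero_left] at h; exact zero_ne_one h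
  have wide : ∀ p ∈ E, ∃ q ∈ E, q ≠ p ∧ Commute p q := by
    intro p hp
    obtain ⟨r, hr, hrp⟩ := partner p hp
    obtain ⟨w, hw0, hw, hwp, hwr⟩ := UnitaryPoints.exists_iso_perp hF hn (M.iso hp) hr (one_comm hrp)
    obtain ⟨y, hy, hyc, hye⟩ := M.exists_mem hw0 hw
    refine ⟨y, hy, fun e => ?_, ((hyc p hp).2 hwp).symm⟩
    obtain ⟨t, ht⟩ := hye p hp e
    rw [ht, H_smul_left, one_comm hrp, mul_one] at hwr
    exact hw0 (by rw [ht, hwr, zero_smul])
  refine ⟨fun p hp q hq => ?_, fun p hp => ?_, wide, ?_, fun p hp q hq e => ?_⟩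
  · by_cases hpq : p = q
    · exact ⟨1, one_mem _, by rw [hpq]; group⟩
    by_cases hc : Commute p q
    · have h0 := (M.comm hp hq).1 hc
      have li : ∀ {a b : G}, a ∈ E → b ∈ E → a ≠ b → ∀ c : FF, M.v a ≠ c • M.v b := fun ha hb hab c e =>
        hab (M.inj hb ha c e).symm
      obtain ⟨r, hr, hpr, hqr⟩ := exists_partner_perp hF (M.ne hp) (M.iso hp) h0 (li hp hq hpq)
      obtain ⟨s, hs, hqs, hps⟩ := exists_partner_perp hF (M.ne hq) (M.iso hq) (zero_comm.1 h0) (li hq hp (Ne.symm hpq))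
      have trans : ∀ {a b c : G}, (∃ g ∈ Subgroup.closure E, g * a * g⁻¹ = b) →
          (∃ g ∈ Subgroup.closure E, g * b * g⁻¹ = c) → ∃ g ∈ Subgroup.closure E, g * a * g⁻¹ = c := by
        rintro a b c ⟨g, hg, rfl⟩ ⟨k, hk, rfl⟩
        exact ⟨k * g, mul_mem hk hg, by group⟩
      have hr1 := one_comm hpr
      have hs1 := one_comm hqs
      by_cases hrs : H r s = 0
      · have hsum : H (r + s) (r + s) = 0 := by
          simp only [H_add_left, H_add_right hF, hr, hs, hrs, zero_comm.1 hrs, add_zero]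
        have hp1 : H (r + s) (M.v p) = 1 := by rw [H_add_left, hr1, zero_comm.1 hps, add_zero]
        have hq1 : H (r + s) (M.v q) = 1 := by rw [H_add_left, hs1, zero_comm.1 hqr, zero_add]
        obtain ⟨y, hy, hyc, -⟩ := M.exists_mem (nz hp1) hsum
        exact trans (conj_noncomm htt hp hy fun k => one_ne_zero (hp1.symm.trans ((hyc p hp).1 k.symm)))
          (conj_noncomm htt hy hq fun k => one_ne_zero (hq1.symm.trans ((hyc q hq).1 k)))
      · obtain ⟨a, ha, hac, -⟩ := M.exists_mem (nz hr1) hr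
        obtain ⟨b, hb, k, hk, eb⟩ := M.surj s (nz hs1) hs
        refine trans (trans (conj_noncomm htt hp ha fun c => one_ne_zero (hr1.symm.trans ((hac p hp).1 c.symm)))
          (conj_noncomm htt ha hb fun c => hrs ?_)) (conj_noncomm htt hb hq fun c => one_ne_zero
            (hs1.symm.trans ((M.comm_smul hk hq hb eb).1 c)))
        have := (hac b hb).1 c
        rwa [eb, H_smul_right, mul_eq_zero, or_iff_right (pow_ne_zero _ hk)] at this
    · exact conj_noncomm htt hp hq hc
  · obtain ⟨r, hr, hrp⟩ := partner p hp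
    obtain ⟨y, hy, hyc, -⟩ := M.exists_mem (nz hrp) hr
    exact ⟨y, hy, fun k => one_ne_zero (hrp.symm.trans ((hyc p hp).1 k.symm))⟩
  · obtain ⟨w, hw0, hw⟩ : ∃ w : Vec, w ≠ 0 ∧ H w w = 0 := by
      refine ⟨fun i => if i.1 < 2 then 1 else 0, fun e => one_ne_zero (α := FF)
        (by simpa using congrFun e ⟨0, by omega⟩), ?_⟩
      obtain ⟨k, rfl⟩ : ∃ k, n = k + 2 := ⟨n - 2, by omega⟩
      simp [Cfsg.hermForm, Fin.sum_univ_succ]
      exact ff_two
    obtain ⟨y, hy, -⟩ := M.surj w hw0 hw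
    exact ⟨y, hy⟩
  · by_contra hpq
    by_cases hc : Commute p q
    · have : q ∈ nb E p := ⟨hq, Ne.symm hpq, hc⟩
      exact (e ▸ this).2.1 rfl
    obtain ⟨y, hy, hyp, hpy⟩ := wide p hp
    have hy' : y ∈ nb E q := e ▸ ⟨hy, hyp, hpy⟩
    have hyp0 := (M.comm hy hp).1 hpy.symm
    have hyq0 := (M.comm hy hq).1 hy'.2.2.symm
    have h1 : H (M.v p + M.v y) (M.v p + M.v y) = 0 := by
      simp only [H_add_left, H_add_right hF, M.iso hp, M.iso hy, hyp0, zero_comm.1 hyp0, add_zero]
    have hne : M.v p + M.v y ≠ 0 := fun h => hyp (M.inj hp hy 1 (by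
      rw [one_smul, ← neg_eq_of_add_eq_zero_right h]; funext i; exact neg_eq_self _)).symm
    obtain ⟨z, hz, hzc, hze⟩ := M.exists_mem hne h1
    have hzp : Commute z p := (hzc p hp).2 (by rw [H_add_left, M.iso hp, hyp0, add_zero])
    have hzne : z ≠ p := fun h => by
      obtain ⟨t, ht⟩ := hze p hp h
      exact hyp (M.inj hp hy (t + 1) (by
        rw [add_smul, one_smul, ← ht, add_comm, ← add_assoc]
        funext i
        show M.v y i = M.v p i + M.v p i + M.v y i
        rw [← two_mul, ff_two, zero_mul, zero_add])).symm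
    have hz' : z ∈ nb E q := e ▸ ⟨hz, hzne, hzp.symm⟩
    have := (hzc q hq).1 hz'.2.2.symm
    rw [H_add_left, hyq0, add_zero] at this
    exact hc ((M.comm hp hq).2 this)

theorem three_units : Nat.card {k : FF // k ≠ 0} = 3 := by
  rw [Nat.card_eq_fintype_card]; decide

/-- The number of points. -/
theorem ncard_eq (M : Mod E n) : E.ncard * 3 + 1 = Classical.UnitaryCount.cnt FF 2 n 0 := by
  let f : Option (E × {k : FF // k ≠ 0}) → {v : Vec // H v v = 0} := fun o =>
    o.elim ⟨0, H_zero_left _⟩ fun p => ⟨p.2.1 • M.v p.1, by rw [H_smul_left, H_smul_right, M.iso p.1.2]; simp⟩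
  have nz : ∀ p : E × {k : FF // k ≠ 0}, p.2.1 • M.v p.1 ≠ 0 := fun p => smul_ne_zero p.2.2 (M.ne p.1.2)
  have hf : Function.Bijective f := by
    refine ⟨?_, fun v => ?_⟩
    · rintro (_ | ⟨a, k⟩) (_ | ⟨b, l⟩) e <;> have e' := congrArg Subtype.val e
      · rfl
      · exact absurd e'.symm (nz (b, l))
      · exact absurd e' (nz (a, k))
      · have hab : a = b := Subtype.ext (M.inj a.2 b.2 (l.1⁻¹ * k.1) (by
          rw [mul_smul, show k.1 • M.v a = l.1 • M.v b from e', smul_smul, inv_mul_cancel₀ l.2, one_smul]))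
        subst hab
        rw [show k = l from Subtype.ext (smul_left_injective FF (M.ne a.2) e')]
    · by_cases h0 : v.1 = 0
      · exact ⟨none, Subtype.ext h0.symm⟩
      obtain ⟨a, ha, c, hc, e⟩ := M.surj v.1 h0 v.2
      refine ⟨some (⟨a, ha⟩, ⟨c⁻¹, inv_ne_zero hc⟩), Subtype.ext ?_⟩
      show c⁻¹ • M.v a = v.1
      rw [e, smul_smul, inv_mul_cancel₀ hc, one_smul]
  have hcard := Nat.card_congr (Equiv.ofBijective f hf)
  haveI : Finite E := Finite.of_injective (fun a : E => f (some (a, ⟨1, one_ne_zero⟩))) fun a b e => by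
    simpa using hf.1 e
  rwa [Finite.card_option, Nat.card_prod, three_units, Nat.card_coe_set_eq] at hcard

/-- The number of points not orthogonal to one. -/
theorem ncard_far (M : Mod E n) {y : G} (hy : y ∈ E) :
    {z ∈ E | ¬ Commute z y}.ncard * 8 = 4 ^ n := by
  set p := M.v y with hp
  obtain ⟨r0, -, hr0⟩ := UnitaryPoints.exists_partner' hF (M.iso hy) (M.ne hy)
  let T := {z : Vec // H z z = 0 ∧ H z p = 1}
  let Z := {z : Vec // H z p = 1}
  have e1 : Nat.card T = {z ∈ E | ¬ Commute z y}.ncard := by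
    rw [← Nat.card_coe_set_eq]
    let g : {z ∈ E | ¬ Commute z y} → T := fun z => ⟨(H (M.v z) p)⁻¹ • M.v z, by
      refine ⟨by rw [H_smul_left, H_smul_right, M.iso z.2.1]; simp, ?_⟩
      rw [H_smul_left, inv_mul_cancel₀]
      exact fun e => z.2.2 ((M.comm z.2.1 hy).2 e)⟩
    refine (Nat.card_congr (Equiv.ofBijective g ⟨fun a b e => ?_, fun t => ?_⟩)).symm
    · have e' : (H (M.v a) p)⁻¹ • M.v a = (H (M.v b) p)⁻¹ • M.v b := congrArg Subtype.val e
      refine Subtype.ext (M.inj a.2.1 b.2.1 (H (M.v b) p * (H (M.v a) p)⁻¹) ?_)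
      rw [mul_smul, e', smul_smul, mul_inv_cancel₀ fun h => b.2.2 ((M.comm b.2.1 hy).2 h), one_smul]
    · obtain ⟨t, ht, htp⟩ := t
      obtain ⟨a, ha, c, hc, e⟩ := M.surj t (fun h => by rw [h, H_zero_left] at htp; exact zero_ne_one htp) ht
      have hap : H (M.v a) p = c := by rw [e, H_smul_left, htp, mul_one]
      refine ⟨⟨a, ha, fun k => hc (hap ▸ (M.comm ha hy).1 k)⟩, Subtype.ext ?_⟩
      show (H (M.v a) p)⁻¹ • M.v a = t
      rw [hap, e, smul_smul, inv_mul_cancel₀ hc, one_smul]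
  have e2 : Nat.card Z = Nat.card T * 2 := by
    have hnp : H p p = 0 := M.iso hy
    let s : Fin 2 → FF := ![0, .w]
    let g : T × Fin 2 → Z := fun q => ⟨q.1.1 + s q.2 • p, by rw [H_add_left, H_smul_left, hnp, q.1.2.2]; simp⟩
    have norm : ∀ (t : T) (c : FF), H (t.1 + c • p) (t.1 + c • p) = c + c ^ 2 := fun t c => by
      simp only [H_add_left, H_add_right hF, H_smul_left, H_smul_right, t.2.1, hnp, t.2.2, one_comm t.2.2]
      ring
    have sinj : ∀ i j : Fin 2, s i + s i ^ 2 = s j + s j ^ 2 → i = j := by decide +kernel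
    have := Nat.card_congr (Equiv.ofBijective g ⟨fun a b e => ?_, fun z => ?_⟩)
    · rw [← this, Nat.card_prod, Nat.card_eq_fintype_card (α := Fin 2), Fintype.card_fin]
    · have e' : a.1.1 + s a.2 • p = b.1.1 + s b.2 • p := congrArg Subtype.val e
      have h2 : a.2 = b.2 := sinj _ _ (by rw [← norm a.1, ← norm b.1, e'])
      rw [h2] at e'
      exact Prod.ext (Subtype.ext (add_right_cancel e')) h2
    · obtain ⟨z, hz⟩ := z
      rcases UnitaryPoints.norm_cases hF z with h | h
      · exact ⟨(⟨z, h, hz⟩, 0), Subtype.ext (show z + (0 : FF) • p = z by rw [zero_smul, add_zero])⟩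
      · refine ⟨(⟨z + (FF.w : FF) • p, ?_, by rw [H_add_left, H_smul_left, hnp, hz]; simp⟩, 1), Subtype.ext ?_⟩
        · simp only [H_add_left, H_add_right hF, H_smul_left, H_smul_right, h, hnp, hz, one_comm hz]
          rfl
        · show z + (FF.w : FF) • p + (FF.w : FF) • p = z
          rw [add_assoc, ← add_smul, ← two_mul, ff_two, zero_mul, zero_smul, add_zero]
  have e3 : 4 ^ n = 4 * Nat.card Z := by
    let g : FF × Z → Vec := fun q => q.2.1 + (1 + q.1) • r0
    have hg : ∀ q : FF × Z, H (g q) p = q.1 := fun q => by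
      rw [H_add_left, H_smul_left, q.2.2, hr0]
      linear_combination ff_two
    have hbij : Function.Bijective g := by
      refine ⟨fun a b e => ?_, fun z => ⟨(H z p, ⟨z + (1 + H z p) • r0, ?_⟩), ?_⟩⟩
      · have h1 : a.1 = b.1 := by rw [← hg a, ← hg b, e]
        have e' : a.2.1 + (1 + a.1) • r0 = b.2.1 + (1 + b.1) • r0 := e
        rw [h1] at e'
        exact Prod.ext h1 (Subtype.ext (add_right_cancel e'))
      · rw [H_add_left, H_smul_left, hr0]
        linear_combination H z p * ff_two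
      · show z + (1 + H z p) • r0 + (1 + H z p) • r0 = z
        rw [add_assoc, ← add_smul, ← two_mul, ff_two, zero_mul, zero_smul, add_zero]
    have := Nat.card_congr (Equiv.ofBijective g hbij)
    rw [Nat.card_prod, Nat.card_eq_fintype_card (α := FF), InvChar.Coset.FF.card,
      Nat.card_eq_fintype_card (α := Vec), Fintype.card_fun, InvChar.Coset.FF.card, Fintype.card_fin] at this
    exact this.symm
  rw [e3, e2, e1]
  ring

end Mod

/-- A standard hyperbolic pair on the last two coordinates. -/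
def tail1 : Fin (m + 2) → FF := Fin.append 0 ![1, 1]

/-- Its partner. -/
def tail2 : Fin (m + 2) → FF := Fin.append 0 ![.w, .w2]

theorem H_append (a b : Fin m → FF) (c d : Fin 2 → FF) :
    Cfsg.hermForm (m + 2) FF 2 (Fin.append a c) (Fin.append b d) =
      Cfsg.hermForm m FF 2 a b + Cfsg.hermForm 2 FF 2 c d := by
  simp [Cfsg.hermForm, Fin.sum_univ_add, Fin.append_left, Fin.append_right]

theorem exists_isometry_pair {p q : Fin (m + 2) → FF} (hp : Cfsg.hermForm (m + 2) FF 2 p p = 0)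
    (hq : Cfsg.hermForm (m + 2) FF 2 q q = 0) (hpq : Cfsg.hermForm (m + 2) FF 2 p q ≠ 0) :
    ∃ f : (Fin (m + 2) → FF) ≃ₗ[FF] (Fin (m + 2) → FF),
      (∀ a b, Cfsg.hermForm (m + 2) FF 2 (f a) (f b) = Cfsg.hermForm (m + 2) FF 2 a b) ∧
      ∃ k : FF, k ≠ 0 ∧ f p = k • tail1 ∧ f q = tail2 := by
  set u := (Cfsg.hermForm (m + 2) FF 2 p q)⁻¹ • p with hu
  have hu1 : Cfsg.hermForm (m + 2) FF 2 u u = 0 := by rw [hu, H_smul_left, H_smul_right, hp, mul_zero, mul_zero]
  have hu2 : Cfsg.hermForm (m + 2) FF 2 u q = 1 := by rw [hu, H_smul_left, inv_mul_cancel₀ hpq]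
  have li : ∀ {a b : Fin (m + 2) → FF}, Cfsg.hermForm (m + 2) FF 2 a a = 0 → Cfsg.hermForm (m + 2) FF 2 a b = 1 →
      LinearIndependent FF ![a, b] := fun {a b} haa hab => by
    rw [LinearIndependent.pair_iff]
    intro s t e
    have e1 : Cfsg.hermForm (m + 2) FF 2 (s • a + t • b) a = 0 := by rw [e, H_zero_left]
    rw [H_add_left, H_smul_left, H_smul_left, haa, one_comm hab, mul_zero, zero_add, mul_one] at e1
    refine ⟨?_, e1⟩
    rw [e1, zero_smul, add_zero] at e
    exact (smul_eq_zero.1 e).resolve_right fun e' => one_ne_zero (α := FF) (by rw [← hab, e', H_zero_left])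
  have t : Cfsg.hermForm 2 FF 2 ![1, 1] ![1, 1] = 0 ∧ Cfsg.hermForm 2 FF 2 ![1, 1] ![.w, .w2] = 1 ∧
      Cfsg.hermForm 2 FF 2 ![.w, .w2] ![.w, .w2] = 0 := by decide +kernel
  have z : Cfsg.hermForm m FF 2 0 0 = 0 := H_zero_left _
  have t1 : Cfsg.hermForm (m + 2) FF 2 tail1 tail1 = 0 := by rw [tail1, H_append, z, t.1, add_zero]
  have t2 : Cfsg.hermForm (m + 2) FF 2 tail1 tail2 = 1 := by rw [tail1, tail2, H_append, z, t.2.1, zero_add]
  obtain ⟨g, g1, g2⟩ := exists_gu_map_pair hF (li hu1 hu2) (li t1 t2) (by rw [hu1, t1]) (by rw [hu2, t2])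
    (by rw [hq, tail2, H_append, z, t.2.2, add_zero])
  have hL : ∀ a b, Cfsg.hermForm (m + 2) FF 2 ((gmat g).mulVecLin a) ((gmat g).mulVecLin b) =
      Cfsg.hermForm (m + 2) FF 2 a b := fun a b => GU_H g a b
  have hinj : Function.Injective (gmat g).mulVecLin := fun a b e => sub_eq_zero.1 (eq_zero_of_H hF fun c => by
    rw [← hL (a - b) c, map_sub, e, sub_self, H_zero_left])
  refine ⟨LinearEquiv.ofInjectiveEndo _ hinj, hL, _, hpq, ?_, g2⟩
  show (gmat g).mulVecLin p = _
  have e : (gmat g).mulVecLin (Cfsg.hermForm (m + 2) FF 2 p q • u) = Cfsg.hermForm (m + 2) FF 2 p q • tail1 := by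
    rw [map_smul, Matrix.mulVecLin_apply, g1]
  rwa [hu, smul_smul, mul_inv_cancel₀ hpq, one_smul] at e

/-- The common neighbours of a non-commuting pair are labelled in dimension two less. -/
theorem Mod.sub (M : Mod E (m + 2)) {x c : G} (hx : x ∈ E) (hc : c ∈ E) (hxc : ¬ Commute x c) :
    Nonempty (Mod (com E x c) m) := by
  obtain ⟨f, hf, k, hk, fx, fc⟩ := exists_isometry_pair (M.iso hx) (M.iso hc) fun e => hxc ((M.comm hx hc).2 e)
  let res : (Fin (m + 2) → FF) → (Fin m → FF) := fun z i => z (Fin.castAdd 2 i)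
  have tails : ∀ z : Fin (m + 2) → FF, Cfsg.hermForm (m + 2) FF 2 z tail1 = 0 →
      Cfsg.hermForm (m + 2) FF 2 z tail2 = 0 → z = Fin.append (res z) 0 := by
    intro z h1 h2
    have hz : z = Fin.append (res z) (fun i => z (Fin.natAdd m i)) := (Fin.append_castAdd_natAdd).symm
    rw [hz] at h1 h2 ⊢
    rw [tail1, H_append, H_zero_right hF, zero_add] at h1
    rw [tail2, H_append, H_zero_right hF, zero_add] at h2
    have key : ∀ d e : FF, d + e = 0 → d * FF.w ^ 2 + e * FF.w2 ^ 2 = 0 → d = 0 ∧ e = 0 := by decide +kernel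
    obtain ⟨h0, h1'⟩ := key (z (Fin.natAdd m 0)) (z (Fin.natAdd m 1))
      (by simpa [Cfsg.hermForm, Fin.sum_univ_two] using h1) (by simpa [Cfsg.hermForm, Fin.sum_univ_two] using h2)
    funext i
    induction i using Fin.addCases with
    | left i => simp [res]
    | right i => fin_cases i <;> simp [h0, h1']
  have mem : ∀ {y}, y ∈ com E x c → f (M.v y) = Fin.append (res (f (M.v y))) 0 := by
    intro y hy
    refine tails _ ?_ ?_
    · have := (M.comm hy.1.1 hx).1 hy.1.2.2.symm
      rw [← hf, fx, H_smul_right, mul_eq_zero, or_iff_right (pow_ne_zero _ hk)] at this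
      exact this
    · rw [← fc, hf]; exact (M.comm hy.1.1 hc).1 hy.2.2.2.symm
  have hH : ∀ {y z}, y ∈ com E x c → z ∈ com E x c →
      Cfsg.hermForm m FF 2 (res (f (M.v y))) (res (f (M.v z))) = Cfsg.hermForm (m + 2) FF 2 (M.v y) (M.v z) := by
    intro y z hy hz
    rw [← hf (M.v y) (M.v z)]
    conv_rhs => rw [mem hy, mem hz, H_append, H_zero_left, add_zero]
  refine ⟨⟨fun y => res (f (M.v y)), fun hy e => ?_, fun hy => by rw [hH hy hy]; exact M.iso hy.1.1,
    fun hy hz => by rw [M.comm hy.1.1 hz.1.1, hH hy hz], fun {a b} ha hb t e => ?_, fun w hw0 hw => ?_⟩⟩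
  · refine M.ne hy.1.1 (f.injective ?_)
    rw [map_zero, mem hy, e]
    funext i
    induction i using Fin.addCases <;> simp
  · refine M.inj ha.1.1 hb.1.1 t (f.injective ?_)
    rw [map_smul, mem ha, mem hb, e]
    funext i
    induction i using Fin.addCases <;> simp
  · set z := f.symm (Fin.append w 0) with hz
    have fz : f z = Fin.append w 0 := f.apply_symm_apply _
    have h2 : ∀ a : Fin 2 → FF, Cfsg.hermForm 2 FF 2 0 a = 0 := H_zero_left
    have hzz : Cfsg.hermForm (m + 2) FF 2 z z = 0 := by rw [← hf, fz, H_append, hw, h2, add_zero]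
    have hz0 : z ≠ 0 := fun e => hw0 (by
      funext i
      have := congrFun (show Fin.append w (0 : Fin 2 → FF) = 0 by rw [← fz, e, map_zero]) (Fin.castAdd 2 i)
      simpa using this)
    have hzx : Cfsg.hermForm (m + 2) FF 2 z (M.v x) = 0 := by
      rw [← hf, fz, fx, H_smul_right, tail1, H_append, H_zero_right hF, h2, add_zero, mul_zero]
    have hzc : Cfsg.hermForm (m + 2) FF 2 z (M.v c) = 0 := by
      rw [← hf, fz, fc, tail2, H_append, H_zero_right hF, h2, add_zero]
    obtain ⟨y, hy, l, hl, e⟩ := M.surj z hz0 hzz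
    have yx : Commute y x := (M.comm_smul hl hx hy e).2 hzx
    have yc : Commute y c := (M.comm_smul hl hc hy e).2 hzc
    refine ⟨y, ⟨⟨hy, fun e => hxc (e ▸ yc), yx.symm⟩, hy, fun e => hxc (e ▸ yx).symm, yc.symm⟩, l, hl, ?_⟩
    show res (f (M.v y)) = l • w
    funext i
    rw [e, map_smul, fz]
    simp [res]

end Cfsg.Agent.Fischer.Unit
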