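import Cfsg.Agent.Lib.Fischer.Local.Square
import Cfsg.Agent.Lib.Fischer.Local.Transfer
import Cfsg.Agent.Lib.Fischer.Unit.Five
import Cfsg.Agent.Lib.Fischer.Unit.Reduce

/-!
A unitary local group has dimension at most six; in dimension six there are 3510 members.
-/

set_option autoImplicit false
set_option linter.unusedSectionVars false

namespace Cfsg.Agent.Fischer.Unit

open Cfsg.Agent.InvChar.Coset (FF)
open Cfsg.Agent.ThreeTransp
open Cfsg.Agent.ThreeTransp.Factor (nb)
open Cfsg.Agent.ThreeTransp.Cover (mem_nb_symm)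
open Cfsg.Agent.GenA.Tower (far)

universe u

variable {G : Type u} [Group G] [Finite G] {D : Set G} {x : G} {n : ℕ}

/-- The components of a common set have local groups of dimension two less. -/
theorem step {m : ℕ} (hD : Std D) (hx : x ∈ D) (hE : GIso (nb D x) (uR (m + 2))) (hm : 4 ≤ m) {c a : G}
    (hc : c ∈ D) (hxc : ¬ Commute x c) (ha : a ∈ com D x c) :
    Space (comp (com D x c) a) ∧ ∀ p ∈ comp (com D x c) a, GIso (nb (comp (com D x c) a) p) (uR m) := by
  have C : Ctx D (m + 2) := ctx_of hD (by omega) hx hE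
  have key : ∀ p ∈ com D x c, Nonempty (Mod (com (nb D p) x c) m) := fun p hp => by
    obtain ⟨M⟩ := C.mods p hp.1.1
    exact M.sub (mem_nb_symm hx hp.1) (mem_nb_symm hc hp.2) hxc
  refine ⟨comp_space hD.grp (fun p hp => (key p hp).some.localOK hm
    (Basic.mono hD.grp.1 fun y hy => hy.1.1.1)) ha, fun p hp => ?_⟩
  have hpA := comp_subset ha hp
  have e : nb (comp (com D x c) a) p = com (nb D p) x c := by
    rw [← com_local]
    exact Set.ext fun y => ⟨fun hy => ⟨comp_subset ha hy.1, (comp_subset ha hy.1).1.1, hy.2.1, hy.2.2⟩,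
      fun hy => ⟨comp_closed hp hpA hy.1 hy.2.2.2, hy.2.2.1, hy.2.2.2⟩⟩
  rw [e]
  exact (key p hpA).some.giso

/-- The local graphs pass to the quotient. -/
theorem quot_local {E : Set G} (h : Space E) {p : G} (hp : p ∈ E) (g : GIso (nb E p) (uR n)) :
    ∃ q ∈ img E, GIso (nb (img E) q) (uR n) := by
  obtain ⟨e, he⟩ := h.exists_equiv
  refine ⟨_, (e ⟨p, hp⟩).2, ?_⟩
  have key : ∀ z : img E, (z : Quot E) ∈ nb (img E) (e ⟨p, hp⟩) ↔ ((e.symm z : E) : G) ∈ nb E p := fun z => by
    obtain ⟨w, rfl⟩ := e.surjective z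
    rw [e.symm_apply_apply]
    exact ⟨fun hz => ⟨w.2, fun k => hz.2.1 (by rw [show w = ⟨p, hp⟩ from Subtype.ext k]), (he ⟨p, hp⟩ w).1 hz.2.2⟩,
      fun hw => ⟨(e w).2, fun k => hw.2.1 (congrArg Subtype.val (e.injective (Subtype.ext k))),
        (he ⟨p, hp⟩ w).2 hw.2.2⟩⟩
  let φ : nb (img E) (e ⟨p, hp⟩) ≃ nb E p :=
  { toFun := fun z => ⟨_, (key ⟨z.1, z.2.1⟩).1 z.2⟩
    invFun := fun w => ⟨(e ⟨w.1, w.2.1⟩ : Quot E), (key (e ⟨w.1, w.2.1⟩)).2 (by rw [e.symm_apply_apply]; exact w.2)⟩
    left_inv := fun z => by simp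
    right_inv := fun w => by simp }
  refine g.comp φ fun a b => ?_
  have := he (e.symm ⟨a.1, a.2.1⟩) (e.symm ⟨b.1, b.2.1⟩)
  rw [e.apply_symm_apply, e.apply_symm_apply] at this
  exact this.symm

/-- Valency and the number of members at distance two inside a local group. -/
theorem params (hD : Std D) (hx : x ∈ D) (hE : GIso (nb D x) (uR n)) :
    (nb D x).ncard * 3 + 1 = Classical.UnitaryCount.cnt FF 2 n 0 ∧
      ∀ y ∈ nb D x, (com D x y).ncard < (nb D x).ncard ∧
        ((nb D x).ncard - 1 - (com D x y).ncard) * 8 = 4 ^ n := by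
  obtain ⟨M⟩ := exists_mod hE
  refine ⟨M.ncard_eq, fun y hy => ?_⟩
  have e : nb D x = insert y (com D x y ∪ {z ∈ nb D x | ¬ Commute z y}) := by
    ext z
    constructor
    · intro hz
      by_cases h : z = y
      · exact Or.inl h
      by_cases h' : Commute z y
      · exact Or.inr (Or.inl ⟨hz, hz.1, h, h'.symm⟩)
      · exact Or.inr (Or.inr ⟨hz, h'⟩)
    · rintro (rfl | h | h)
      exacts [hy, h.1, h.1]
  have hk : (nb D x).ncard = (com D x y).ncard + {z ∈ nb D x | ¬ Commute z y}.ncard + 1 := by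
    conv_lhs => rw [e]
    rw [Set.ncard_insert_of_notMem ?_ (Set.toFinite _), Set.ncard_union_eq ?_ (Set.toFinite _) (Set.toFinite _)]
    · rw [Set.disjoint_left]; exact fun z h1 h2 => h2.2 h1.2.2.2.symm
    · rintro (h | h)
      exacts [h.2.2.1 rfl, h.2 (Commute.refl _)]
  exact ⟨by omega, by rw [← M.ncard_far hy]; omega⟩

theorem cnt_four : Classical.UnitaryCount.cnt FF 2 4 0 = 136 := by
  rw [Classical.UnitaryCount.cnt_zero_eq hF, if_pos (by decide)]; rfl

theorem cnt_six : Classical.UnitaryCount.cnt FF 2 6 0 = 2080 := by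
  rw [Classical.UnitaryCount.cnt_zero_eq hF, if_pos (by decide)]; rfl

theorem cnt_eight : Classical.UnitaryCount.cnt FF 2 8 0 = 32896 := by
  rw [Classical.UnitaryCount.cnt_zero_eq hF, if_pos (by decide)]; rfl

/-- A member with a neighbour and a member not commuting with it. -/
theorem exists_pair (hD : Std D) (hx : x ∈ D) :
    ∃ y c a, y ∈ nb D x ∧ c ∈ D ∧ ¬ Commute x c ∧ a ∈ com D x c := by
  obtain ⟨c, hc, hxc⟩ := hD.exists_noncomm hx
  obtain ⟨a, ha⟩ := hD.com_nonempty hx hc hxc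
  exact ⟨a, c, a, ha.1, hc, hxc, ha⟩

/-- Valency, common neighbours and the count in dimension four. -/
theorem four_count (hD : Std D) (hx : x ∈ D) (hE : GIso (nb D x) (uR 4)) :
    (nb D x).ncard = 45 ∧ ∃ f μ, D.ncard = 46 + f ∧ f * μ = 1440 ∧ μ ≤ 45 := by
  obtain ⟨y, c, a, hy, hc, hxc, -⟩ := exists_pair hD hx
  obtain ⟨hk, hl⟩ := params hD hx hE
  obtain ⟨hlt, hl'⟩ := hl y hy
  rw [cnt_four] at hk
  norm_num at hl'
  have hk' : (nb D x).ncard = 45 := by omega
  refine ⟨hk', (far D x).ncard, (com D x c).ncard, by rw [GenA.Tower.ncard_D hD.grp hx, hk'], ?_, ?_⟩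
  · have := hD.count hx hy hc hxc
    rw [GenA.Tower.ncard_D hD.grp hx, show ∀ k f : ℕ, 1 + k + f - 1 - k = f by omega, hk'] at this
    rw [this, show 45 - 1 - (com D x y).ncard = 32 by omega]
  · exact le_of_le_of_eq (Set.ncard_le_ncard Set.inter_subset_left) hk'

theorem six_arith : ∀ μ < 693, 354816 % μ = 0 →
    (let e : ℕ := if μ ≤ 180 then 180 - μ else μ - 180
     Nat.sqrt (e * e + 4 * (693 - μ)) * Nat.sqrt (e * e + 4 * (693 - μ)) = e * e + 4 * (693 - μ)) →
    μ = 198 ∨ μ = 126 := by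
  decide +kernel

/-- Dimension six: a common set is one space of 126 members and there are 3510 members. -/
theorem six_count (hD : Std D) (hx : x ∈ D) (hE : GIso (nb D x) (uR 6)) :
    (nb D x).ncard = 693 ∧ D.ncard = 3510 ∧
      ∀ c ∈ D, ¬ Commute x c → ∀ a ∈ com D x c, (com D x c).ncard = 126 ∧ comp (com D x c) a = com D x c := by
  classical
  obtain ⟨y, c₀, a₀, hy, hc₀, hxc₀, ha₀⟩ := exists_pair hD hx
  obtain ⟨hk, hl⟩ := params hD hx hE
  obtain ⟨hlt, hl'⟩ := hl y hy
  rw [cnt_six] at hk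
  norm_num at hl'
  have hk' : (nb D x).ncard = 693 := by omega
  have hl0 : (com D x y).ncard = 180 := by omega
  refine ⟨hk', ?_⟩
  set μ := (com D x c₀).ncard with hμ
  set f := (far D x).ncard with hf
  have hn : D.ncard = 694 + f := by rw [GenA.Tower.ncard_D hD.grp hx, hk']
  have hfμ : f * μ = 354816 := by
    have := hD.count hx hy hc₀ hxc₀
    rw [GenA.Tower.ncard_D hD.grp hx, show ∀ k f : ℕ, 1 + k + f - 1 - k = f by omega, hk', hl0] at this
    exact this
  -- the component of one member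
  obtain ⟨hS, hloc⟩ := step (m := 4) hD hx hE le_rfl hc₀ hxc₀ ha₀
  obtain ⟨q, hq, hqE⟩ := quot_local hS (mem_comp_self a₀) (hloc a₀ (mem_comp_self a₀))
  obtain ⟨h45, f', μ', hn', hf', hμ'⟩ := four_count hS.quot hq hqE
  rw [hS.ncard_img] at hn'
  obtain ⟨j, hj⟩ := comps_three_pow (com_tt hD.grp) (com_conj hD.grp) ⟨a₀, ha₀⟩
  have hA : μ = 3 ^ j * (46 + f') := by
    rw [hμ, ncard_eq_comps_mul (com_tt hD.grp) (com_conj hD.grp) ha₀, hj, hn']
  have hμk : μ < 693 := by
    refine lt_of_le_of_ne (le_of_le_of_eq (Set.ncard_le_ncard Set.inter_subset_left) hk') fun e => ?_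
    have hA' : com D x c₀ = nb D x :=
      Set.eq_of_subset_of_ncard_le Set.inter_subset_left (by rw [hk', ← e])
    have h1 : nb (comp (com D x c₀) a₀) a₀ = com D x a₀ := by
      ext z
      constructor
      · intro hz
        exact ⟨(comp_subset ha₀ hz.1).1, (comp_subset ha₀ hz.1).1.1, hz.2.1, hz.2.2⟩
      · intro hz
        exact ⟨comp_closed (mem_comp_self a₀) ha₀ (hA'.ge hz.1) hz.2.2.2, hz.2.2.1, hz.2.2.2⟩
    obtain ⟨hlt', hl''⟩ := hl a₀ ha₀.1
    obtain ⟨M⟩ := exists_mod (hloc a₀ (mem_comp_self a₀))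
    have h2 := M.ncard_eq
    rw [h1, cnt_four] at h2
    norm_num at hl''
    omega
  haveI : Fintype D := Fintype.ofFinite D
  have hsrg := GenA.Tower.srg hD.grp (k := 693) (l := 180) (μ := μ) (n := D.ncard)
    (fun b hb => (hD.nb_const hb hx).trans hk') (fun b hb z hz => (hD.inner_const hb hz hx hy).trans hl0)
    (fun b hb d hd hbd => hD.com_const hb hd hbd hx hc₀ hxc₀) rfl
  have hfpos : 0 < f := by
    rcases Nat.eq_zero_or_pos f with h | h
    · rw [h, zero_mul] at hfμ; omega
    · exact h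
  have hμ2 : μ = 198 ∨ μ = 126 := by
    rcases srg_square _ hsrg (by omega) hμk (by omega) (by norm_num) with ⟨i, hi⟩ | h
    · refine six_arith μ hμk (Nat.mod_eq_zero_of_dvd (show μ ∣ 354816 from ⟨f, by rw [← hfμ, mul_comm]⟩)) ?_
      · intro e
        have h1 : ((e * e + 4 * (693 - μ) : ℕ) : ℤ) = i ^ 2 := by
          rw [← hi]
          push_cast [Nat.cast_sub hμk.le]
          simp only [e]
          split_ifs with h
          · rw [Nat.cast_sub h]; ring
          · rw [Nat.cast_sub (by omega : 180 ≤ μ)]; ring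
        have h2 : e * e + 4 * (693 - μ) = i.natAbs * i.natAbs := by
          have : ((e * e + 4 * (693 - μ) : ℕ) : ℤ) = ((i.natAbs * i.natAbs : ℕ) : ℤ) := by
            rw [h1, Nat.cast_mul, Int.natAbs_mul_self', sq]
          exact_mod_cast this
        rw [h2, Nat.sqrt_eq]
    · exfalso
      rw [hn] at h
      push_cast at h
      have hμ0 : (0 : ℤ) ≤ μ := by positivity
      have hf0 : (1 : ℤ) ≤ f := by exact_mod_cast hfpos
      have hp : (f : ℤ) * μ = 354816 := by exact_mod_cast hfμ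
      have hlow : (181 : ℤ) ≤ μ := by
        by_contra hcon
        nlinarith
      have hfle : (f : ℤ) ≤ 693 := by nlinarith
      have hhigh : (512 : ℤ) ≤ μ := by nlinarith
      nlinarith
  have hmain : f' = 80 ∧ j = 0 ∧ μ = 126 := by
    have hj2 : j < 2 := by
      by_contra hj2
      have := Nat.pow_le_pow_right (show 1 ≤ 3 by norm_num) (not_lt.1 hj2)
      rcases hμ2 with h | h <;> nlinarith
    have hf'0 : 0 < f' := Nat.pos_of_ne_zero fun e => by rw [e, zero_mul] at hf'; omega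
    interval_cases j <;> rcases hμ2 with h | h <;> rw [h] at hA <;> norm_num at hA <;>
      first
        | (refine ⟨?_, rfl, h⟩; omega)
        | omega
        | (have hfe : f' = 152 ∨ f' = 20 := by omega
           rcases hfe with rfl | rfl <;> omega)
  obtain ⟨hf80, hj0, hμ126⟩ := hmain
  refine ⟨by rw [hμ126] at hfμ; omega, fun c hc hxc a ha => ?_⟩
  have hc126 : (com D x c).ncard = 126 := (hD.com_const hx hc hxc hx hc₀ hxc₀).trans hμ126
  refine ⟨hc126, Set.eq_of_subset_of_ncard_le (comp_subset ha) ?_⟩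
  obtain ⟨hS', hloc'⟩ := step (m := 4) hD hx hE le_rfl hc hxc ha
  obtain ⟨q', hq', hqE'⟩ := quot_local hS' (mem_comp_self a) (hloc' a (mem_comp_self a))
  obtain ⟨-, g, ν, hg, hg', hν⟩ := four_count hS'.quot hq' hqE'
  rw [hS'.ncard_img] at hg
  obtain ⟨i, hi⟩ := comps_three_pow (com_tt hD.grp) (com_conj hD.grp) ⟨a, ha⟩
  have e := ncard_eq_comps_mul (com_tt hD.grp) (com_conj hD.grp) ha
  rw [hi, hc126, hg] at e
  rcases Nat.eq_zero_or_pos i with rfl | hi0
  · omega
  · exfalso
    have h3 : 3 ≤ 3 ^ i := Nat.le_self_pow (by omega) 3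
    have := Nat.mul_le_mul_right (46 + g) h3
    omega

/-- There is no local group of a dimension above six. -/
theorem big_false : ∀ n, 5 ≤ n → n ≠ 6 → ∀ {G : Type u} [Group G] [Finite G] {D : Set G} {x : G},
    Std D → x ∈ D → GIso (nb D x) (uR n) → False := by
  intro n
  induction n using Nat.strong_induction_on with
  | _ n ih =>
    intro hn hn6 G _ _ D x hD hx hE
    by_cases h5 : n = 5
    · subst h5; exact Five.five_false hD hx hE
    obtain ⟨m, rfl⟩ : ∃ m, n = m + 2 := ⟨n - 2, by omega⟩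
    obtain ⟨y, c, a, hy, hc, hxc, ha⟩ := exists_pair hD hx
    obtain ⟨hS, hloc⟩ := step hD hx hE (by omega) hc hxc ha
    obtain ⟨q, hq, hqE⟩ := quot_local hS (mem_comp_self a) (hloc a (mem_comp_self a))
    by_cases hm6 : m = 6
    · subst hm6
      have h3510 := (six_count hS.quot hq hqE).2.1
      rw [hS.ncard_img] at h3510
      obtain ⟨hk, hl⟩ := params hD hx hE
      obtain ⟨hlt, hl'⟩ := hl y hy
      rw [cnt_eight] at hk
      norm_num at hl'
      have hcount := hD.count hx hy hc hxc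
      rw [show (nb D x).ncard - 1 - (com D x y).ncard = 8192 by omega,
        show (nb D x).ncard = 10965 by omega, ncard_eq_comps_mul (com_tt hD.grp) (com_conj hD.grp) ha, h3510] at hcount
      have : 27 ∣ 10965 * 8192 := ⟨(D.ncard - 1 - 10965) * ((comp (com D x c) '' com D x c).ncard * 130), by
        rw [← hcount]; ring⟩
      norm_num at this
    · exact ih m (by omega) (by omega) hm6 hS.quot hq hqE

end Cfsg.Agent.Fischer.Unit
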