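import Cfsg.Agent.Lib.Fischer.Graph.Conclusion
import Cfsg.Agent.Lib.Fischer.Unit.Big

/-!
A unitary local group of dimension six gives type M(22), given that the common set of 126 members is the
orthogonal graph of dimension six.
-/

set_option autoImplicit false
set_option linter.unusedSectionVars false

namespace Cfsg.Agent.Fischer.Unit

open Cfsg.Agent.InvChar.Coset (FF)
open Cfsg.Agent.Classical.Unitary
open Cfsg.Agent.ThreeTransp
open Cfsg.Agent.ThreeTransp.Factor (nb)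
open Cfsg.Agent.ThreeTransp.Cover (mem_nb_symm)

universe u

variable {G : Type u} [Group G] [Finite G] {n : ℕ} {E : Set G}

local notation "Vec" => (Fin n → FF)
local notation "H" => Cfsg.hermForm n FF 2

/-- A set with the unitary graph is a space. -/
theorem Mod.space (M : Mod E n) (hn : 4 ≤ n) (htt : Cfsg.IsThreeTranspositionSet E)
    (hc : ∀ a ∈ E, ∀ b ∈ E, a * b * a⁻¹ ∈ E) : Space E := by
  have L := M.localOK hn htt
  have hadj : ∀ {a b : G} (ha : a ∈ E) (hb : b ∈ E), a ≠ b → Commute a b →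
      (Cfsg.commutingGraph E).Reachable ⟨a, ha⟩ ⟨b, hb⟩ := fun {a b} ha hb hne hab => SimpleGraph.Adj.reachable (by
    simp only [Cfsg.commutingGraph, SimpleGraph.fromRel_adj]
    exact ⟨fun k => hne (congrArg Subtype.val k), Or.inl hab⟩)
  obtain ⟨p0, hp0⟩ := L.nonempty
  obtain ⟨q0, hq0, hne0, hc0⟩ := L.wide p0 hp0
  refine ⟨htt, hc, L.trans, ⟨p0, hp0, q0, hq0, hne0.symm, hc0⟩, ?_, fun a ha b hb h => ?_, L.psep⟩
  · haveI : Nonempty E := ⟨⟨p0, hp0⟩⟩
    refine ⟨fun a b => ?_⟩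
    obtain ⟨a, ha⟩ := a
    obtain ⟨b, hb⟩ := b
    by_cases hab : a = b
    · subst hab; exact SimpleGraph.Reachable.refl _
    by_cases hcab : Commute a b
    · exact hadj ha hb hab hcab
    have h0 : H (M.v a) (M.v b) ≠ 0 := fun e => hcab ((M.comm ha hb).2 e)
    set k := (H (M.v a) (M.v b))⁻¹ with hk
    obtain ⟨w, hw0, hw, hwu, hwv⟩ := UnitaryPoints.exists_iso_perp hF hn
      (show H (k • M.v a) (k • M.v a) = 0 by rw [H_smul_left, H_smul_right, M.iso ha, mul_zero, mul_zero])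
      (M.iso hb) (by rw [H_smul_left, hk, inv_mul_cancel₀ h0])
    rw [H_smul_right, mul_eq_zero, or_iff_right (pow_ne_zero _ (inv_ne_zero h0))] at hwu
    obtain ⟨y, hy, hyc, -⟩ := M.exists_mem hw0 hw
    have h1 : Commute y a := (hyc a ha).2 hwu
    have h2 : Commute y b := (hyc b hb).2 hwv
    exact (hadj ha hy (fun e => hcab (e ▸ h2)) h1.symm).trans (hadj hy hb (fun e => hcab (e ▸ h1).symm) h2)
  · by_contra hne
    have hab : Commute a b := (h b hb).2 (Commute.refl b)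
    obtain ⟨r, hr, har, hbr⟩ := exists_partner_perp hF (M.ne ha) (M.iso ha) ((M.comm ha hb).1 hab)
      fun c e => hne (M.inj hb ha c e).symm
    have hr0 : r ≠ 0 := fun e => by rw [e, H_zero_right hF] at har; exact zero_ne_one har
    obtain ⟨y, hy, hyc, -⟩ := M.exists_mem hr0 hr
    have : Commute a y := (h y hy).2 ((hyc b hb).2 (zero_comm.1 hbr)).symm
    exact one_ne_zero (har.symm.trans (zero_comm.1 ((hyc a ha).1 this.symm)))

/-- Type M(22). -/
theorem six_m22 {D : Set G} (hD : Std D) {x : G} (hx : x ∈ D) (hB : Below.{u} D.ncard)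
    (hE : GIso (nb D x) (uR 6))
    (hrec : ∀ C : Set G, Space C → Types C → C.ncard = 126 → (∃ p ∈ C, (nb C p).ncard = 45) →
      ∃ Q : QuadraticForm (ZMod 3) (Fin 6 → ZMod 3),
        (QuadraticMap.polarBilin Q).Nondegenerate ∧ Cfsg.polarGramDet (⇑Q) = 1 ∧ GIso C (o3R Q)) :
    Types D := by
  obtain ⟨y, c, a, hy, hc, hxc, ha⟩ := exists_pair hD hx
  obtain ⟨-, hn, hA⟩ := six_count hD hx hE
  obtain ⟨hA126, hAC⟩ := hA c hc hxc a ha
  obtain ⟨hS, hloc⟩ := step (m := 4) hD hx hE le_rfl hc hxc ha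
  rw [hAC] at hS hloc
  have h45 : (nb (com D x c) a).ncard = 45 := by
    obtain ⟨M⟩ := exists_mod (hloc a ha)
    have := M.ncard_eq
    rw [cnt_four] at this
    omega
  obtain ⟨Q, hQ, hdet, hQE⟩ :=
    hrec _ hS (hS.types hB (by rw [hA126, hn]; norm_num)) hA126 ⟨a, ha, h45⟩
  obtain ⟨M⟩ := exists_mod hE
  have hN : Space (nb D x) := M.space (by norm_num) (hD.nb_tt hx) (hD.nb_conj hx)
  obtain ⟨eN, heN⟩ := hN.exists_equiv
  obtain ⟨eA, heA⟩ := hS.exists_equiv
  obtain ⟨φ, -⟩ := GIso.unit_iso hN.img_group hN.quot_center (n := 6) (by norm_num)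
    (hE.comp eN.symm fun p q => by rw [← heN, eN.apply_symm_apply, eN.apply_symm_apply])
  obtain ⟨ψ, -⟩ := GIso.o3_iso hS.img_group hS.quot_center (n := 6) (by norm_num) hQ
    (hQE.comp eA.symm fun p q => by rw [← heA, eA.apply_symm_apply, eA.apply_symm_apply])
  have h22 : Cfsg.IsOfTypeM22 G D :=
    ⟨hD.cent, x, hx, c, hc, hxc, ⟨FF, inferInstance, inferInstance, rfl, ⟨φ⟩⟩,
      1, one_ne_zero, Q, hQ, hdet, ⟨ψ⟩⟩
  obtain ⟨f, hf⟩ := exists_quot_self hD.grp hD.cent
  have h := GenA.Tower.type22 f.symm D h22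
  have e : f.symm '' D = img D := (congrArg (fun S => f.symm '' S) hf).symm.trans (by simp [Set.image_image])
  exact .m22 (e ▸ h)

end Cfsg.Agent.Fischer.Unit
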