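import Cfsg.Agent.Lib.Fischer.Big.Ident
import Cfsg.Agent.Lib.Fischer.Unit.Six

/-!
The unitary rows.
-/

set_option autoImplicit false

namespace Cfsg.Agent.Fischer

open Cfsg.Agent.ThreeTransp.Factor (nb)

universe u

/-- The row of the unitary groups of dimension five and more, given the recognition of the common set in dimension six. -/
theorem row_unit_of {G : Type u} [Group G] [Finite G] {D : Set G} {x : G} (hD : Std D) (hx : x ∈ D)
    (hB : Below.{u} D.ncard) {n : ℕ} (hn : 5 ≤ n) (hE : GIso (nb D x) (uR n))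
    (hrec : ∀ C : Set G, Space C → Types C → C.ncard = 126 → (∃ p ∈ C, (nb C p).ncard = 45) →
      ∃ Q : QuadraticForm (ZMod 3) (Fin 6 → ZMod 3),
        (QuadraticMap.polarBilin Q).Nondegenerate ∧ Cfsg.polarGramDet (⇑Q) = 1 ∧ GIso C (o3R Q)) :
    Types D := by
  by_cases h6 : n = 6
  · subst h6
    exact Unit.six_m22 hD hx hB hE hrec
  · exact (Unit.big_false n hn h6 hD hx hE).elim

/-- The row of the unitary groups of dimension five and more. -/
theorem row_unit {G : Type u} [Group G] [Finite G] {D : Set G} {x : G} (hD : Std D) (hx : x ∈ D)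
    (hB : Below.{u} D.ncard) {n : ℕ} (hn : 5 ≤ n) (hE : GIso (nb D x) (uR n)) : Types D :=
  row_unit_of hD hx hB hn hE fun C hC hT h126 _ => by
    rcases hC.special_cases hT (Or.inl h126) with ⟨-, h⟩ | ⟨h, -⟩ | ⟨h, -⟩
    exacts [h, by omega, by omega]

end Cfsg.Agent.Fischer
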