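import Cfsg.Agent.Lib.Fischer.Unit.Geometry

/-!
Finite facts on the five dimensional hermitian space over four elements.
-/

set_option autoImplicit false
set_option linter.unusedSectionVars false

namespace Cfsg.Agent.Fischer.Unit.Five

open Cfsg.Agent.InvChar.Coset (FF)

local notation "V5" => (Fin 5 → FF)
local notation "H" => Cfsg.hermForm 5 FF 2

/-- Five coordinates. -/
def mk (a b c d e : FF) : Fin 5 → FF := ![a, b, c, d, e]

theorem eq_mk (x : V5) : x = mk (x 0) (x 1) (x 2) (x 3) (x 4) := by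
  funext i; fin_cases i <;> rfl

/-- Exactly two non-zero coordinates. -/
def Wt (w : Fin 5 → FF) : Prop := (Finset.univ.filter fun i => w i ≠ 0).card = 2

instance (w : Fin 5 → FF) : Decidable (Wt w) := inferInstanceAs (Decidable (_ = 2))

/-- Supported on the first three coordinates. -/
def Low (w : Fin 5 → FF) : Prop := w 3 = 0 ∧ w 4 = 0

/-- Supported on the last three coordinates. -/
def High (w : Fin 5 → FF) : Prop := w 0 = 0 ∧ w 1 = 0

instance (w : Fin 5 → FF) : Decidable (Low w) := inferInstanceAs (Decidable (_ ∧ _))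

instance (w : Fin 5 → FF) : Decidable (High w) := inferInstanceAs (Decidable (_ ∧ _))

/-- The nine points on the first three coordinates. -/
def nine : Fin 9 → (Fin 5 → FF) :=
  ![mk 1 1 0 0 0, mk 1 .w 0 0 0, mk 1 .w2 0 0 0, mk 1 0 1 0 0, mk 1 0 .w 0 0, mk 1 0 .w2 0 0,
    mk 0 1 1 0 0, mk 0 1 .w 0 0, mk 0 1 .w2 0 0]

theorem nine_spec : ∀ a b c : FF, mk a b c 0 0 ≠ 0 → H (mk a b c 0 0) (mk a b c 0 0) = 0 →
    Wt (mk a b c 0 0) ∧ ∃ i, ∃ k : FF, k ≠ 0 ∧ mk a b c 0 0 = k • nine i := by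
  decide +kernel

theorem high_spec : ∀ c d e : FF, mk 0 0 c d e ≠ 0 → H (mk 0 0 c d e) (mk 0 0 c d e) = 0 →
    Wt (mk 0 0 c d e) := by
  decide +kernel

/-- A point of weight four is on a line with two points of weight two. -/
theorem split_four : ∀ a b c d e : FF, mk a b c d e ≠ 0 → H (mk a b c d e) (mk a b c d e) = 0 →
    Wt (mk a b c d e) ∨ ∃ i j : Fin 5,
      Wt (fun l => if l = i ∨ l = j then mk a b c d e l else 0) ∧
      H (mk a b c d e) (fun l => if l = i ∨ l = j then mk a b c d e l else 0) = 0 ∧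
      Wt (fun l => if l = i ∨ l = j then 0 else mk a b c d e l) := by
  decide +kernel

/-- A point of weight two is low, high, or the third of a low and a high one. -/
theorem wt_cases : ∀ a b c d e : FF, Wt (mk a b c d e) → Low (mk a b c d e) ∨ High (mk a b c d e) ∨
    ∃ i : Fin 2, ∃ j : Fin 2, ∃ t : FF, t ≠ 0 ∧ ∃ k : FF, k ≠ 0 ∧
      mk a b c d e = k • (mk 0 0 1 (![t, 0] j) (![0, t] j) +
        H (mk 0 0 1 (![t, 0] j) (![0, t] j)) (mk (![1, 0] i) (![0, 1] i) 1 0 0) • mk (![1, 0] i) (![0, 1] i) 1 0 0) := by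
  decide +kernel

theorem sigma_false : ∀ s t u : FF, s ≠ 0 → t * s ^ 2 * FF.w2 = 1 → u * s ^ 2 = 1 → u * t ^ 2 * FF.w2 = 1 → False := by
  decide +kernel

end Cfsg.Agent.Fischer.Unit.Five
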