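import Cfsg.Agent.Lib.Fischer.Defs
import Cfsg.Agent.Lib.ThreeTransp.UnitaryPoints

/-!
Geometry of the hermitian space over four elements: isotropic vectors in the perps of hyperbolic pairs and of
totally isotropic lines.
-/

set_option autoImplicit false
set_option linter.unusedSectionVars false

namespace Cfsg.Agent.Fischer.Unit

open Cfsg.Agent.InvChar.Coset (FF)
open Cfsg.Agent.Classical.Unitary
open Cfsg.Agent.ThreeTransp
open Cfsg.Agent.GroupStructure3.ThreeTransUnitary (two_zero cube)

variable {n : ℕ}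

local notation "Vec" => (Fin n → FF)
local notation "H" => Cfsg.hermForm n FF 2

theorem hF : Fintype.card FF = 2 ^ 2 := InvChar.Coset.FF.card

theorem conjH (x y : Vec) : H x y ^ 2 = H y x := H_conj hF x y

theorem zero_comm {x y : Vec} : H x y = 0 ↔ H y x = 0 := H_eq_zero_comm hF

theorem one_comm {x y : Vec} (h : H x y = 1) : H y x = 1 := by rw [← conjH, h, one_pow]

theorem neg_eq_self (x : FF) : -x = x := rfl

theorem sub_eq_add' (x y : FF) : x - y = x + y := by rw [sub_eq_add_neg, neg_eq_self]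

theorem ff_two : (2 : FF) = 0 := two_zero hF

/-- An element of a given trace. -/
theorem exists_trace {c : FF} (h : c = 0 ∨ c = 1) : ∃ τ : FF, τ + τ ^ 2 = c := by
  rcases h with rfl | rfl
  · exact ⟨0, by simp⟩
  · exact ⟨.w, rfl⟩

/-- An isotropic shift of a vector along an isotropic vector. -/
theorem exists_iso_shift {z x : Vec} (hx : H x x = 0) (hzx : H z x = 1) :
    ∃ τ : FF, H (z + τ • x) (z + τ • x) = 0 ∧ H (z + τ • x) x = 1 := by
  obtain ⟨τ, hτ⟩ := exists_trace (UnitaryPoints.norm_cases hF z)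
  refine ⟨τ, ?_, by rw [H_add_left, H_smul_left, hx, mul_zero, add_zero, hzx]⟩
  simp only [H_add_left, H_add_right hF, H_smul_left, H_smul_right, hx, hzx, one_comm hzx]
  linear_combination hτ + (H z z) * ff_two

/-- A projection to the perp of some vectors. -/
structure Proj (S : Set (Fin n → FF)) where
  P : (Fin n → FF) → (Fin n → FF)
  perp : ∀ z, ∀ s ∈ S, Cfsg.hermForm n FF 2 (P z) s = 0
  keep : ∀ z y, (∀ s ∈ S, Cfsg.hermForm n FF 2 y s = 0) → Cfsg.hermForm n FF 2 (P z) y = Cfsg.hermForm n FF 2 z y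

/-- An isotropic vector of the perp meeting a non-zero isotropic one. -/
theorem exists_meet_iso {S : Set Vec} (π : Proj S) {x : Vec} (hxS : ∀ s ∈ S, H x s = 0) (hx0 : x ≠ 0)
    (hx : H x x = 0) : ∃ r : Vec, H r r = 0 ∧ (∀ s ∈ S, H r s = 0) ∧ H r x = 1 := by
  obtain ⟨z, hzz, hzx⟩ := UnitaryPoints.exists_partner' hF hx hx0
  obtain ⟨τ, h1, h2⟩ := exists_iso_shift hx (show H (π.P z) x = 1 by rw [π.keep z x hxS, hzx])
  exact ⟨_, h1, fun s hs => by rw [H_add_left, H_smul_left, π.perp z s hs, hxS s hs, mul_zero, add_zero], h2⟩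

/-- An isotropic vector of the perp meeting a non-zero vector, if there is room. -/
theorem exists_meet {S : Set Vec} (π : Proj S) {x : Vec} (hxS : ∀ s ∈ S, H x s = 0) (hx0 : x ≠ 0)
    (hroom : ∃ y : Vec, y ≠ 0 ∧ (∀ s ∈ S, H y s = 0) ∧ H y x = 0) :
    ∃ r : Vec, H r r = 0 ∧ (∀ s ∈ S, H r s = 0) ∧ H r x = 1 := by
  rcases UnitaryPoints.norm_cases hF x with hx | hx
  · exact exists_meet_iso π hxS hx0 hx
  obtain ⟨y, hy0, hyS, hyx⟩ := hroom
  have hxy : H x y = 0 := zero_comm.1 hyx
  obtain ⟨e, hee, heS, hex⟩ : ∃ e : Vec, H e e = 1 ∧ (∀ s ∈ S, H e s = 0) ∧ H e x = 0 := by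
    rcases UnitaryPoints.norm_cases hF y with hy | hy
    · obtain ⟨z, -, hzy⟩ := UnitaryPoints.exists_partner' hF hy hy0
      set z1 := π.P z + H (π.P z) x • x with hz1
      have hz1y : H z1 y = 1 := by rw [hz1, H_add_left, H_smul_left, hxy, mul_zero, add_zero, π.keep z y hyS, hzy]
      obtain ⟨τ, h1, h2⟩ := exists_iso_shift hy hz1y
      refine ⟨z1 + τ • y + (FF.w : FF) • y, ?_, fun s hs => ?_, ?_⟩
      · simp only [H_add_left (x := z1 + τ • y), H_add_right hF (z1 + τ • y) (z1 + τ • y), H_smul_left, H_smul_right, h1, h2,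
          one_comm h2, H_add_right hF _ (z1 + τ • y), hy]
        rfl
      · simp only [hz1, H_add_left, H_smul_left, π.perp z s hs, hxS s hs, hyS s hs, mul_zero, add_zero]
      · simp only [hz1, H_add_left, H_smul_left, hx, hyx, mul_one, mul_zero, add_zero]
        linear_combination H (π.P z) x * ff_two
    · exact ⟨y, hy, hyS, hyx⟩
  refine ⟨x + e, ?_, fun s hs => by rw [H_add_left, hxS s hs, heS s hs, add_zero],
    by rw [H_add_left, hx, hex, add_zero]⟩
  simp only [H_add_left, H_add_right hF, hx, hee, hex, zero_comm.1 hex]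
  linear_combination ff_two

/-- The projection to the perp of a hyperbolic pair. -/
def pairProj {u v : Vec} (hu : H u u = 0) (hv : H v v = 0) (huv : H u v = 1) : Proj ({u, v} : Set Vec) where
  P z := z - H z v • u - H z u • v
  perp z s hs := by
    have h := (UnitaryPoints.mem_perp2 hF).1 (UnitaryPoints.proj_mem hF hu hv huv z)
    rcases hs with rfl | rfl
    exacts [h.1, h.2]
  keep z y hy := by
    rw [H_sub_left, H_sub_left, H_smul_left, H_smul_left, zero_comm.1 (hy u (Or.inl rfl)),
      zero_comm.1 (hy v (Or.inr rfl)), mul_zero, mul_zero, sub_zero, sub_zero]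

/-- The isotropic vectors orthogonal to a hyperbolic pair determine it. -/
theorem mem_span_pair (hn : 4 ≤ n) {u v z : Vec} (hu : H u u = 0) (hv : H v v = 0) (huv : H u v ≠ 0)
    (h : ∀ r : Vec, H r r = 0 → H r u = 0 → H r v = 0 → H r z = 0) : ∃ α β : FF, z = α • u + β • v := by
  obtain ⟨hu', -⟩ := UnitaryPoints.tr_scale hF hu (inv_ne_zero huv)
  set u' := (H u v)⁻¹ • u with hu'd
  have huv' : H u' v = 1 := by rw [hu'd, H_smul_left, inv_mul_cancel₀ huv]
  set π := pairProj hu' hv huv'
  have hP : π.P z = z - H z v • u' - H z u' • v := rfl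
  by_cases hx : π.P z = 0
  · refine ⟨H z v * (H u v)⁻¹, H z u', ?_⟩
    rw [hP, sub_sub, sub_eq_zero] at hx
    rw [mul_smul, ← hu'd]
    exact hx
  exfalso
  obtain ⟨y, hy0, hyu, hyv, hyx⟩ := UnitaryPoints.exists_perp3 hF hn u' v (π.P z)
  obtain ⟨r, hr, hrS, hrx⟩ := exists_meet π (π.perp z) hx ⟨y, hy0, fun s hs => by
    rcases hs with rfl | rfl
    exacts [hyu, hyv], hyx⟩
  have hru : H r u' = 0 := hrS u' (Or.inl rfl)
  have hrv : H r v = 0 := hrS v (Or.inr rfl)
  have hru0 : H r u = 0 := by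
    rw [hu'd, H_smul_right] at hru
    exact (mul_eq_zero.1 hru).resolve_left (pow_ne_zero _ (inv_ne_zero huv))
  simp [hP, hu'd, H_sub_right hF, H_smul_right, hru0, hrv, h r hr hru0 hrv] at hrx

/-- Isotropic points with the same neighbours in the perp of a point lie on a line through it. -/
theorem mem_line {p a q : Vec} (hp : H p p = 0) (ha : H a a = 0) (hq : H q q = 0) (hpa : H p a = 0)
    (ha0 : a ≠ 0) (hqa : H q a = 0) (hli : ∀ c : FF, p ≠ c • a)
    (h : ∀ r : Vec, H r r = 0 → H r a = 0 → (H r p = 0 ↔ H r q = 0)) : ∃ α β : FF, q = α • p + β • a := by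
  have hp0 : p ≠ 0 := fun e => hli 0 (by rw [e, zero_smul])
  have hap : H a p = 0 := zero_comm.1 hpa
  have hqp : H q p = 0 := (h q hq hqa).2 hq
  obtain ⟨p', hp', hpp', hap'⟩ := exists_partner_perp hF hp0 hp hpa hli
  have hli' : ∀ c : FF, a ≠ c • p := fun c e => by
    rcases eq_or_ne c 0 with rfl | hc
    · exact ha0 (by rw [e, zero_smul])
    · exact hli c⁻¹ (by rw [e, smul_smul, inv_mul_cancel₀ hc, one_smul])
  obtain ⟨a', ha', haa', hpa'⟩ := exists_partner_perp hF ha0 ha hap hli'
  -- make the two partners orthogonal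
  have hp'a : H p' a = 0 := zero_comm.1 hap'
  have ha'p : H a' p = 0 := zero_comm.1 hpa'
  set p'' := p' - H p' a' • a with hp''
  have h1 : H p'' p'' = 0 := by simp [hp'', H_sub_left, H_sub_right hF, H_smul_left, H_smul_right, hp', ha, hap', hp'a]
  have h2 : H p p'' = 1 := by simp [hp'', H_sub_right hF, H_smul_right, hpp', hpa]
  have h3 : H a p'' = 0 := by simp [hp'', H_sub_right hF, H_smul_right, hap', ha]
  have h4 : H p'' a' = 0 := by simp [hp'', H_sub_left, H_smul_left, haa']
  -- the projection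
  let π : Proj ({p, a, p'', a'} : Set Vec) :=
    { P := fun z => z - H z p'' • p - H z a' • a - H z p • p'' - H z a • a'
      perp := fun z s hs => by
        rcases hs with rfl | rfl | rfl | rfl <;>
          simp [H_sub_left, H_smul_left, hp, ha, h1, ha', hpa, hap, h2, one_comm h2, h3, zero_comm.1 h3, haa',
            one_comm haa', hpa', ha'p, h4, zero_comm.1 h4]
      keep := fun z y hy => by
        have e1 := zero_comm.1 (hy p (by simp))
        have e2 := zero_comm.1 (hy a (by simp))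
        have e3 := zero_comm.1 (hy p'' (by simp))
        have e4 := zero_comm.1 (hy a' (by simp))
        simp [H_sub_left, H_smul_left, e1, e2, e3, e4] }
  have hP : π.P q = q - H q p'' • p - H q a' • a := by
    show q - H q p'' • p - H q a' • a - H q p • p'' - H q a • a' = _
    rw [hqp, hqa, zero_smul, zero_smul, sub_zero, sub_zero]
  refine ⟨H q p'', H q a', ?_⟩
  by_contra hne
  have hw0 : π.P q ≠ 0 := fun e => hne (by rw [hP, sub_sub, sub_eq_zero] at e; exact e)
  have hpq : H p q = 0 := zero_comm.1 hqp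
  have haq : H a q = 0 := zero_comm.1 hqa
  have hw : H (π.P q) (π.P q) = 0 := by
    rw [hP]
    simp [H_sub_left, H_sub_right hF, H_smul_left, H_smul_right, hq, hp, ha, hpa, hap, hqp, hqa, hpq, haq]
  obtain ⟨r, hr, hrS, hrw⟩ := exists_meet_iso π (π.perp q) hw0 hw
  have e1 : H r p = 0 := hrS p (by simp)
  have e2 : H r a = 0 := hrS a (by simp)
  rw [hP, H_sub_right hF, H_sub_right hF, H_smul_right, H_smul_right, e1, e2, (h r hr e2).1 e1] at hrw
  simp at hrw

end Cfsg.Agent.Fischer.Unit
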