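import Cfsg.Agent.Lib.Fischer.Unit.Geometry

/-!
Sets of members with the commuting graph of the isotropic points; the common neighbours of two non-commuting
members meet each line through one of their members once.
-/

set_option autoImplicit false
set_option linter.unusedSectionVars false

namespace Cfsg.Agent.Fischer.Unit

open Cfsg.Agent.InvChar.Coset (FF)
open Cfsg.Agent.Classical.Unitary
open Cfsg.Agent.ThreeTransp
open Cfsg.Agent.ThreeTransp.Factor (nb)

universe u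

variable {G : Type u} [Group G] {n : ℕ}

local notation "Vec" => (Fin n → FF)
local notation "H" => Cfsg.hermForm n FF 2

/-- A labelling of `E` by the isotropic points. -/
structure Mod (E : Set G) (n : ℕ) where
  v : G → (Fin n → FF)
  ne : ∀ {a : G}, a ∈ E → v a ≠ 0
  iso : ∀ {a : G}, a ∈ E → Cfsg.hermForm n FF 2 (v a) (v a) = 0
  comm : ∀ {a b : G}, a ∈ E → b ∈ E → (Commute a b ↔ Cfsg.hermForm n FF 2 (v a) (v b) = 0)
  inj : ∀ {a b : G}, a ∈ E → b ∈ E → ∀ c : FF, v b = c • v a → a = b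
  surj : ∀ w : Fin n → FF, w ≠ 0 → Cfsg.hermForm n FF 2 w w = 0 → ∃ a ∈ E, ∃ c : FF, c ≠ 0 ∧ v a = c • w

/-- A labelling from the graph. -/
theorem exists_mod {E : Set G} (h : GIso E (uR n)) : Nonempty (Mod E n) := by
  classical
  obtain ⟨φ, hφ⟩ := h
  let v : G → Vec := fun a => if h : a ∈ E then (φ ⟨a, h⟩).2.choose else 0
  have hv : ∀ {a : G} (h : a ∈ E), v a ≠ 0 ∧ H (v a) (v a) = 0 ∧ (φ ⟨a, h⟩).1 = Submodule.span FF {v a} := by
    intro a h
    simp only [v, dif_pos h]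
    exact (φ ⟨a, h⟩).2.choose_spec
  refine ⟨⟨v, fun h => (hv h).1, fun h => (hv h).2.1, fun {a b} ha hb => ?_, fun {a b} ha hb c e => ?_,
    fun w hw0 hw => ?_⟩⟩
  · rw [hφ ⟨a, ha⟩ ⟨b, hb⟩, uR, (hv ha).2.2, (hv hb).2.2]
    refine ⟨fun h => h _ (Submodule.mem_span_singleton_self _) _ (Submodule.mem_span_singleton_self _),
      fun h x hx y hy => ?_⟩
    obtain ⟨c, rfl⟩ := Submodule.mem_span_singleton.1 hx
    obtain ⟨d, rfl⟩ := Submodule.mem_span_singleton.1 hy
    rw [H_smul_left, H_smul_right, h, mul_zero, mul_zero]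
  · have hc : c ≠ 0 := fun e0 => (hv hb).1 (by rw [e, e0, zero_smul])
    have : φ ⟨b, hb⟩ = φ ⟨a, ha⟩ := Subtype.ext (by
      rw [(hv hb).2.2, (hv ha).2.2, e]
      exact Submodule.span_singleton_smul_eq (IsUnit.mk0 c hc) _)
    exact (congrArg Subtype.val (φ.injective this)).symm
  · set L : UP n := ⟨Submodule.span FF {w}, w, hw0, hw, rfl⟩
    set a := φ.symm L
    have e : (φ ⟨a, a.2⟩).1 = Submodule.span FF {w} := by
      rw [show φ ⟨(a : G), a.2⟩ = φ a from rfl, φ.apply_symm_apply]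
    rw [(hv a.2).2.2] at e
    obtain ⟨c, hc⟩ := Submodule.mem_span_singleton.1 (e ▸ Submodule.mem_span_singleton_self (v a))
    exact ⟨a, a.2, c, fun e0 => (hv a.2).1 (by rw [← hc, e0, zero_smul]), hc.symm⟩

namespace Mod

variable {E : Set G} (M : Mod E n)

/-- The labelling carried along a conjugation. -/
def conj (g : G) : Mod ((fun a => g * a * g⁻¹) '' E) n where
  v a := M.v (g⁻¹ * a * g)
  ne := by rintro _ ⟨a, ha, rfl⟩; simpa [mul_assoc] using M.ne ha
  iso := by rintro _ ⟨a, ha, rfl⟩; simpa [mul_assoc] using M.iso ha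
  comm := by
    rintro _ _ ⟨a, ha, rfl⟩ ⟨b, hb, rfl⟩
    rw [Basic.commute_conj]
    simpa [mul_assoc] using M.comm ha hb
  inj := by
    rintro _ _ ⟨a, ha, rfl⟩ ⟨b, hb, rfl⟩ c e
    have : a = b := M.inj ha hb c (by simpa [mul_assoc] using e)
    rw [this]
  surj w hw0 hw := by
    obtain ⟨a, ha, c, hc, e⟩ := M.surj w hw0 hw
    exact ⟨_, ⟨a, ha, rfl⟩, c, hc, by simpa [mul_assoc] using e⟩

/-- Other coordinates. -/
def map (f : (Fin n → FF) ≃ₗ[FF] (Fin n → FF))
    (hf : ∀ x y, Cfsg.hermForm n FF 2 (f x) (f y) = Cfsg.hermForm n FF 2 x y) : Mod E n where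
  v a := f (M.v a)
  ne ha e := M.ne ha (f.injective (e.trans (map_zero f).symm))
  iso ha := by rw [hf, M.iso ha]
  comm ha hb := by rw [hf, M.comm ha hb]
  inj ha hb c e := M.inj ha hb c (f.injective (by rw [map_smul, e]))
  surj w hw0 hw := by
    obtain ⟨a, ha, c, hc, e⟩ := M.surj (f.symm w) (fun e => hw0 (by rw [← f.apply_symm_apply w, e, map_zero]))
      (by rw [← hf, f.apply_symm_apply, hw])
    exact ⟨a, ha, c, hc, by rw [e, map_smul, f.apply_symm_apply]⟩

theorem comm_smul {a : G} {w : Vec} {c : FF} (hc : c ≠ 0) {b : G} (ha : a ∈ E) (hb : b ∈ E) (e : M.v b = c • w) :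
    Commute b a ↔ H w (M.v a) = 0 := by
  rw [M.comm hb ha, e, H_smul_left, mul_eq_zero, or_iff_right hc]

theorem eq_of_comb {a b : G} (ha : a ∈ E) (hb : b ∈ E) {c : FF} {w : Vec} (h1 : M.v a = w) (h2 : M.v b = c • w) :
    a = b := M.inj ha hb c (by rw [h2, h1])

/-- The third member on a hyperbolic line. -/
theorem third (hn : 4 ≤ n) (htt : Cfsg.IsThreeTranspositionSet E) (hconj : ∀ a ∈ E, ∀ b ∈ E, a * b * a ∈ E)
    {a b : G} (ha : a ∈ E) (hb : b ∈ E) :
    ∃ c : FF, c ≠ 0 ∧ M.v (a * b * a) = c • (M.v b + H (M.v b) (M.v a) • M.v a) := by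
  have ha2 : a * a = 1 := Basic.sq htt ha
  by_cases hab : Commute a b
  · refine ⟨1, one_ne_zero, ?_⟩
    rw [one_smul, (M.comm hb ha).1 hab.symm, zero_smul, add_zero, hab.eq, mul_assoc, ha2, mul_one]
  have h0 : H (M.v b) (M.v a) ≠ 0 := fun e => hab ((M.comm hb ha).2 e).symm
  have hc := hconj a ha b hb
  obtain ⟨α, β, e⟩ := mem_span_pair hn (M.iso hb) (M.iso ha) h0 (z := M.v (a * b * a)) fun r hr hrb hra => by
    by_cases hr0 : r = 0
    · rw [hr0, H_zero_left]
    obtain ⟨d, hd, c, hc0, hdr⟩ := M.surj r hr0 hr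
    rw [← M.comm_smul hc0 hc hd hdr]
    have d1 : Commute d a := (M.comm_smul hc0 ha hd hdr).2 hra
    have d2 : Commute d b := (M.comm_smul hc0 hb hd hdr).2 hrb
    exact (d1.mul_right d2).mul_right d1
  have hne : ¬ Commute (a * b * a) a := fun h => hab (by
    have h' : a * b * a * a = a * (a * b * a) := h.eq
    rw [mul_assoc (a * b), ha2, mul_one, ← mul_assoc, ← mul_assoc, ha2, one_mul] at h'
    exact h')
  have hα : α ≠ 0 := by
    rintro rfl
    rw [zero_smul, zero_add] at e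
    exact hne (M.inj ha hc β e ▸ Commute.refl _)
  have hβ : β ≠ 0 := by
    rintro rfl
    rw [zero_smul, add_zero] at e
    have hba : b = a * b * a := M.inj hb hc α e
    apply hab
    calc a * b = a * b * (a * a) := by rw [ha2, mul_one]
      _ = a * b * a * a := by group
      _ = b * a := by rw [← hba]
  refine ⟨α, hα, ?_⟩
  set h := H (M.v b) (M.v a) with hh
  have hz := M.iso hc
  rw [e] at hz
  simp only [H_add_left, H_add_right hF, H_smul_left, H_smul_right, M.iso ha, M.iso hb, mul_zero, zero_add,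
    add_zero, ← hh, show H (M.v a) (M.v b) = h ^ 2 from (conjH _ _).symm] at hz
  have key : ∀ α β h : FF, α ≠ 0 → β ≠ 0 → h ≠ 0 →
      β * (α ^ 2 * h ^ 2) + α * (β ^ 2 * h) = 0 → β = α * h := by decide
  have hβ' : β = α * h := key α β h hα hβ h0 (by linear_combination hz)
  rw [e, hβ', smul_add, smul_smul]

end Mod

/-- The same common neighbours among those of `x` and `a`. -/
def Tw (D : Set G) (x a p q : G) : Prop :=
  ∀ r ∈ com D x a, (Commute r p ↔ Commute r q)

theorem Tw.symm {D : Set G} {x a p q : G} (h : Tw D x a p q) : Tw D x a q p := fun r hr => (h r hr).symm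

theorem com_symm {D : Set G} (x a : G) : com D x a = com D a x := Set.inter_comm _ _

theorem Tw.swap {D : Set G} {x a p q : G} (h : Tw D x a p q) : Tw D a x p q := fun r hr =>
  h r (com_symm (D := D) x a ▸ hr)

theorem mem_nb {D : Set G} {x y : G} : y ∈ nb D x ↔ y ∈ D ∧ y ≠ x ∧ Commute x y := Iff.rfl

/-- In the labelling around `x`, twins are the members of a line through `a`. -/
theorem tw_iff {D : Set G} {x a p q : G} (M : Mod (nb D x) n) (ha : a ∈ nb D x) (hp : p ∈ com D x a)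
    (hq : q ∈ com D x a) : Tw D x a p q ↔ ∃ α β : FF, α ≠ 0 ∧ M.v q = α • M.v p + β • M.v a := by
  have hpa : H (M.v p) (M.v a) = 0 := (M.comm hp.1 ha).1 hp.2.2.2.symm
  have hqa : H (M.v q) (M.v a) = 0 := (M.comm hq.1 ha).1 hq.2.2.2.symm
  have hpne : p ≠ a := hp.2.2.1
  constructor
  · intro h
    obtain ⟨α, β, e⟩ := mem_line (M.iso hp.1) (M.iso ha) (M.iso hq.1) hpa (M.ne ha) hqa
      (fun c e => hpne (M.inj ha hp.1 c e).symm) (fun r hr hra => by
        by_cases hr0 : r = 0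
        · simp only [hr0, H_zero_left]
        obtain ⟨d, hd, c, hc, hdr⟩ := M.surj r hr0 hr
        have h1 := M.comm_smul hc hp.1 hd hdr
        have h2 := M.comm_smul hc hq.1 hd hdr
        by_cases hda : d = a
        · rw [← h1, ← h2, hda]
          exact ⟨fun _ => hq.2.2.2, fun _ => hp.2.2.2⟩
        have hcd : Commute d a := (M.comm_smul hc ha hd hdr).2 hra
        rw [← h1, ← h2]
        exact h d ⟨hd, hd.1, hda, hcd.symm⟩)
    refine ⟨α, β, ?_, e⟩
    rintro rfl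
    rw [zero_smul, zero_add] at e
    exact hq.2.2.1 (M.inj ha hq.1 β e).symm
  · rintro ⟨α, β, hα, e⟩ r hr
    have hra : H (M.v r) (M.v a) = 0 := (M.comm hr.1 ha).1 hr.2.2.2.symm
    rw [M.comm hr.1 hp.1, M.comm hr.1 hq.1, e, H_add_right hF, H_smul_right, H_smul_right, hra, mul_zero,
      add_zero, mul_eq_zero, or_iff_right (pow_ne_zero _ hα)]

/-- Around `a` every line through `x` has a member commuting with `c`. -/
theorem exists_tw {D : Set G} {x c a p : G} (M : Mod (nb D a) n) (hx : x ∈ D) (hc : c ∈ D) (hxc : ¬ Commute x c)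
    (ha : a ∈ com D x c) (hp : p ∈ com D x a) : ∃ q ∈ com D x c ∩ nb D a, Tw D x a p q := by
  have hxa : x ∈ nb D a := ⟨hx, fun e => ha.1.2.1 e.symm, ha.1.2.2.symm⟩
  have hca : c ∈ nb D a := ⟨hc, fun e => ha.2.2.1 e.symm, ha.2.2.2.symm⟩
  set h := H (M.v x) (M.v c) with hh
  have h0 : h ≠ 0 := fun e => hxc ((M.comm hxa hca).2 e)
  have hpx : H (M.v p) (M.v x) = 0 := (M.comm hp.2 hxa).1 hp.1.2.2.symm
  set w := h • M.v p + H (M.v p) (M.v c) • M.v x with hw
  have hww : H w w = 0 := by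
    simp only [hw, H_add_left, H_add_right hF, H_smul_left, H_smul_right, M.iso hp.2, M.iso hxa, hpx,
      zero_comm.1 hpx, mul_zero, add_zero]
  have hwx : H w (M.v x) = 0 := by
    simp only [hw, H_add_left, H_smul_left, hpx, M.iso hxa, mul_zero, add_zero]
  have hwc : H w (M.v c) = 0 := by
    rw [hw, H_add_left, H_smul_left, H_smul_left, ← hh]
    linear_combination (h * H (M.v p) (M.v c)) * ff_two
  have hw0 : w ≠ 0 := fun e => by
    refine hp.1.2.1 (M.inj hxa hp.2 (h⁻¹ * H (M.v p) (M.v c)) ?_).symm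
    rw [hw, add_eq_zero_iff_eq_neg, ← neg_smul, neg_eq_self] at e
    rw [mul_smul, ← e, smul_smul, inv_mul_cancel₀ h0, one_smul]
  obtain ⟨q, hq, d, hd, e⟩ := M.surj w hw0 hww
  have qx : Commute q x := (M.comm_smul hd hxa hq e).2 hwx
  have qc : Commute q c := (M.comm_smul hd hca hq e).2 hwc
  have hqx : q ≠ x := fun e' => hxc (e' ▸ qc)
  have hqc : q ≠ c := fun e' => hxc (e' ▸ qx).symm
  refine ⟨q, ⟨⟨⟨hq.1, hqx, qx.symm⟩, hq.1, hqc, qc.symm⟩, hq⟩, Tw.swap ((tw_iff M hxa ?_ ?_).2 ⟨d * h, d * H (M.v p) (M.v c), mul_ne_zero hd h0, ?_⟩)⟩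
  · rw [com_symm]; exact hp
  · exact ⟨hq, hq.1, hqx, qx.symm⟩
  · rw [e, hw, smul_add, smul_smul, smul_smul]

/-- Two of them on the same line agree. -/
theorem tw_unique {D : Set G} {x c a q q' : G} (M : Mod (nb D a) n) (hx : x ∈ D) (hc : c ∈ D) (hxc : ¬ Commute x c)
    (ha : a ∈ com D x c) (hq : q ∈ com D x c ∩ nb D a) (hq' : q' ∈ com D x c ∩ nb D a) (h : Tw D x a q q') :
    q = q' := by
  have hxa : x ∈ nb D a := ⟨hx, fun e => ha.1.2.1 e.symm, ha.1.2.2.symm⟩
  have hca : c ∈ nb D a := ⟨hc, fun e => ha.2.2.1 e.symm, ha.2.2.2.symm⟩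
  obtain ⟨α, β, -, e⟩ := (tw_iff M hxa (p := q) (q := q') ⟨hq.2, hq.1.1⟩ ⟨hq'.2, hq'.1.1⟩).1 h.swap
  have h1 : H (M.v q') (M.v c) = 0 := (M.comm hq'.2 hca).1 hq'.1.2.2.2.symm
  have h2 : H (M.v q) (M.v c) = 0 := (M.comm hq.2 hca).1 hq.1.2.2.2.symm
  rw [e, H_add_left, H_smul_left, H_smul_left, h2, mul_zero, zero_add] at h1
  have hβ : β = 0 := (mul_eq_zero.1 h1).resolve_right fun e' => hxc ((M.comm hxa hca).2 e')
  rw [hβ, zero_smul, add_zero] at e
  exact M.inj hq.2 hq'.2 α e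

end Cfsg.Agent.Fischer.Unit
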